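import Cfsg.Agent.Lib.HNRecog.Classes.Three
import Cfsg.Agent.Lib.HNRecog.End.Table
import Cfsg.Agent.Lib.HNRecog.End.Basic

/-!
The classes of the table, and the second and third facts on classes of HN.
-/

set_option autoImplicit false
set_option maxRecDepth 100000
set_option linter.style.haveILetI false

namespace Cfsg.Agent.HNRecog.Classes

open Cfsg.Agent.HN Cfsg.Agent.HNMult

noncomputable section

theorem isT_eq (r : ℕ) : End.isT r = (Nat.blt r 2 || Nat.beq r 3) := by
  rcases r with _ | _ | _ | _ | r <;> rfl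

theorem labelled : Labelled := by
  intro i hi
  rcases eq_or_ne i 0 with rfl | h0
  · refine iff_of_false ?_ (by decide +kernel)
    rw [eS_zero, map_one, isConj_one_left]
    intro e
    have := End.orderOf_T
    rw [e, orderOf_one] at this
    exact absurd this (by norm_num)
  rcases eq_or_ne (sqI i) 0 with hs | hs
  · rw [End.class_entry hi h0 hs, isT_eq, TI]
    cases hb : Nat.beq i 0 with
    | true => exact absurd (Nat.eq_of_beq_eq_true hb) h0
    | false => simp [TClass, hs]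
  · refine iff_of_false (fun h => hs ((sq_one_iff hi).1 (psi_eq_iff.1 ?_))) ?_
    · obtain ⟨g, hg⟩ := isConj_iff.1 h
      rw [map_mul, map_one, ← hg]
      exact conj_invol g T0_sq
    · rw [TI]
      cases hb : Nat.beq (sqI i) 0 with
      | true => exact absurd (Nat.eq_of_beq_eq_true hb) hs
      | false => simp

theorem two_entry {i : ℕ} (hi : i < 2048) (h0 : i ≠ 0) (hAT : i ≠ iAT) (hs : sqI i = 0) (t0 : TI i = false)
    (tT : TI (mulI i iT) = true) (tA : TI (mulI i iAT) = false) :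
    ∃ w : H0, w * eS iAT = eS iAT * w ∧ w * eS 9 * w⁻¹ = eS i := by
  have h := allLo_spec two_ok hi
  have e0 : Nat.beq i 0 = false := by
    cases hb : Nat.beq i 0
    · rfl
    · exact absurd (Nat.eq_of_beq_eq_true hb) h0
  have eA : Nat.beq i iAT = false := by
    cases hb : Nat.beq i iAT
    · rfl
    · exact absurd (Nat.eq_of_beq_eq_true hb) hAT
  simp only [e0, eA, hs, t0, tT, tA, Nat.beq_refl, Bool.not_true, Bool.false_or] at h
  obtain ⟨p, hp, hpi⟩ := List.mem_iff_getElem.1 (memL_iff.1 h)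
  have hw := allLo_spec twoW_ok hp
  simp only [Bool.and_eq_true, List.getD_eq_getElem _ _ hp, hpi] at hw
  obtain ⟨⟨⟨-, -⟩, hA⟩, h9⟩ := hw
  have a := el_eq hA
  have b := el_eq h9
  rw [el_append, el_append] at a b
  exact ⟨_, a, by rw [eq_comm, eq_mul_inv_iff_mul_eq]; exact b.symm⟩

theorem two_words : ev Dat.gTwo * psiHN (eS iAT) * (ev Dat.gTwo)⁻¹ = V1 ∧
    ev Dat.gTwo * psiHN (eS 9) * (ev Dat.gTwo)⁻¹ = psiHN (eS iAT) := by
  have hg : okAtoms Dat.gTwo = true := by decide +kernel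
  have h9 : (9 : ℕ) < 2048 := by norm_num
  have h48 : (48 : ℕ) < 2048 := by norm_num
  have hAT := special_spec.2.2.1
  constructor
  · have e := word_val (W := twoWord1) (by decide +kernel) word_two1
    rwa [twoWord1, ev_append, ev_append, ev_append, ev_winvA _ hg, ev_winvA (wd 48) (by decide +kernel),
      ev_wd hAT, ev_wd h48, mul_inv_eq_one] at e
  · have e := word_val (W := twoWord2) (by decide +kernel) word_two2
    rwa [twoWord2, ev_append, ev_append, ev_append, ev_winvA _ hg, ev_winvA (wd iAT) (by decide +kernel),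
      ev_wd h9, ev_wd hAT, mul_inv_eq_one] at e

/-- The second fact: the four-groups of the first profile are conjugate to the chosen one. -/
theorem four (z : Cfsg.Spor.HN) (hz : orderOf z = 2) (zT : Commute z T0) (zW : Commute z W0) (ne : z ≠ W0)
    (tz : IsConj T0 (T0 * z)) (c0 : ¬IsConj T0 z) (c2 : ¬IsConj T0 (z * W0)) :
    ∃ g : Cfsg.Spor.HN, g * W0 * g⁻¹ = V1 ∧ g * z * g⁻¹ = W0 := by
  obtain ⟨ζ, rfl⟩ := MonoidHom.mem_range.1 (mem_range_iff.1 zT.eq)
  have hAT := special_spec.2.2.1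
  have hz2 : ζ * ζ = 1 := psi_eq_iff.1 (by
    rw [map_mul, map_one, ← pow_two, ← hz, pow_orderOf_eq_one])
  have zA : ζ * eS iAT = eS iAT * ζ := psi_eq_iff.1 (by rw [map_mul, map_mul]; exact zW.eq)
  have hle : Subgroup.closure {ζ} ≤ Subgroup.centralizer ({eS iAT} : Set H0) := by
    rw [Subgroup.closure_le]
    rintro a rfl
    exact Subgroup.mem_centralizer_singleton_iff.2 zA
  obtain ⟨c, hc, hin⟩ := conj_into_AT (isPGroup_closure (by rintro a rfl; exact hz2)
    (by rintro a rfl b rfl; rfl)) hle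
  obtain ⟨i, hi, ei⟩ := hin ζ (Subgroup.subset_closure rfl)
  have hc' : c * eS iAT * c⁻¹ = eS iAT := by
    rw [Subgroup.mem_centralizer_singleton_iff.1 hc, mul_inv_cancel_right]
  have hz1 : ζ ≠ 1 := fun e => by rw [e, map_one, orderOf_one] at hz; exact absurd hz (by norm_num)
  have back : ζ = c⁻¹ * eS i * c := by rw [ei]; group
  have fixA : psiHN c * W0 * (psiHN c)⁻¹ = W0 := by
    rw [W0, ← map_inv, ← map_mul, ← map_mul, hc']
  have pc : psiHN (eS i) = psiHN c * psiHN ζ * (psiHN c)⁻¹ := by rw [ei, map_mul, map_mul, map_inv]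
  have i0 : i ≠ 0 := fun e => hz1 (by rw [back, e, eS_zero]; group)
  have iA : i ≠ iAT := fun e => ne (by rw [back, e, W0]; congr 1; nth_rewrite 1 [← hc']; group)
  have tcomm : T0 * psiHN ζ = psiHN ζ * T0 := T0_comm ζ
  have tT := (label_mul labelled hi special_spec.1).1 (by
    rw [psi_iT, pc, show psiHN c * psiHN ζ * (psiHN c)⁻¹ * T0 = psiHN c * psiHN ζ * ((psiHN c)⁻¹ * T0) by group,
      ← map_inv, ← T0_comm, map_inv, ← mul_assoc,
      show psiHN c * psiHN ζ * T0 * (psiHN c)⁻¹ = psiHN c * (psiHN ζ * T0) * (psiHN c)⁻¹ by group,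
      isConj_conj_iff, ← tcomm]
    exact tz)
  have tA := (not_label (label_mul labelled hi hAT)).1 (by
    rw [show psiHN (eS iAT) = W0 from rfl, pc, ← fixA,
      show psiHN c * psiHN ζ * (psiHN c)⁻¹ * (psiHN c * W0 * (psiHN c)⁻¹) =
        psiHN c * (psiHN ζ * W0) * (psiHN c)⁻¹ by group, isConj_conj_iff]
    exact c2)
  obtain ⟨w, wA, w9⟩ := two_entry hi i0 iA (sq_zero hi (by rw [ei]; exact conj_invol c hz2))
    ((not_label (labelled i hi)).1 (by rw [pc, isConj_conj_iff]; exact c0)) tT tA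
  obtain ⟨g1, g2⟩ := two_words
  refine ⟨ev Dat.gTwo * (psiHN w)⁻¹ * psiHN c, ?_, ?_⟩
  · have : (psiHN w)⁻¹ * W0 * psiHN w = W0 := by
      rw [W0, ← map_inv, ← map_mul, ← map_mul, mul_assoc, ← wA, inv_mul_cancel_left]
    calc ev Dat.gTwo * (psiHN w)⁻¹ * psiHN c * W0 * (ev Dat.gTwo * (psiHN w)⁻¹ * psiHN c)⁻¹
        = ev Dat.gTwo * ((psiHN w)⁻¹ * (psiHN c * W0 * (psiHN c)⁻¹) * psiHN w) * (ev Dat.gTwo)⁻¹ := by group
      _ = V1 := by rw [fixA, this]; exact g1
  · calc ev Dat.gTwo * (psiHN w)⁻¹ * psiHN c * psiHN ζ * (ev Dat.gTwo * (psiHN w)⁻¹ * psiHN c)⁻¹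
        = ev Dat.gTwo * ((psiHN w)⁻¹ * (psiHN c * psiHN ζ * (psiHN c)⁻¹) * psiHN w) * (ev Dat.gTwo)⁻¹ := by group
      _ = W0 := by
        rw [← pc, ← map_inv, ← map_mul, ← map_mul, show w⁻¹ * eS i * w = eS 9 by rw [← w9]; group]
        exact g2

/-- The third fact: no involution beside the chosen four-group has the second profile. -/
theorem eight (z : Cfsg.Spor.HN) (hz : orderOf z = 2) (n1 : z ≠ V1) (n2 : z ≠ W0) (n3 : z ≠ V1 * W0)
    (zT : Commute z T0) (zV : Commute z V1) (zW : Commute z W0) (tz : IsConj T0 (T0 * z)) (c0 : ¬IsConj T0 z)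
    (c1 : ¬IsConj T0 (z * V1)) (c2 : ¬IsConj T0 (z * W0)) (c3 : ¬IsConj T0 (z * (V1 * W0)))
    (s : Cfsg.Spor.HN) (hs : IsConj T0 s) (sV : Commute s V1) (sW : Commute s W0) (sz : Commute s z)
    (p12 : IsConj T0 (s * (V1 * W0))) (p1 : ¬IsConj T0 (s * V1)) (p2 : ¬IsConj T0 (s * W0)) : False :=
  no_second_profile labelled hz n1 n2 n3 zT.eq zV.eq zW.eq tz c0 c1 c2 c3
    ⟨s, hs, sV.eq, sW.eq, sz.eq, p12, p1, p2⟩

end

end Cfsg.Agent.HNRecog.Classes
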