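import Cfsg.Agent.Lib.HNRecog.Classes.OneDefs

/-! Kernel checks. -/

set_option autoImplicit false
set_option maxRecDepth 100000
set_option Elab.async false

namespace Cfsg.Agent.HNRecog.Classes

open Cfsg.Agent.HN

theorem comm_ok : allLo okComm 8 = true := by decide +kernel

theorem rep5_ok : allLo okRep5 5 = true := by decide +kernel

theorem rep_base : repC 0 = [] ∧ repT.length = 8 ∧ Dat.gens.length = 4 := by decide +kernel

theorem st_ok : allLo okSt 144 = true := by decide +kernel

theorem syl_comm : allLo (fun g => commI iAT (Dat.gens.getD g 0)) 4 = true := by decide +kernel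

end Cfsg.Agent.HNRecog.Classes
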