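import Cfsg.Agent.Lib.HNRecog.Classes.OneChkMoveC

/-! Kernel checks, built one after another to bound the memory in use. -/

set_option autoImplicit false
set_option maxRecDepth 100000
set_option Elab.async false

namespace Cfsg.Agent.HNRecog.Classes

open Cfsg.Agent.HN

theorem moves_ok9 : allLo (okMv 9) 144 = true := by decide +kernel

theorem moves_ok10 : allLo (okMv 10) 144 = true := by decide +kernel

end Cfsg.Agent.HNRecog.Classes
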