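import Cfsg.Agent.Lib.HNRecog.Classes.OneChkRowA
import Cfsg.Agent.Lib.HNRecog.Classes.OneChkRowB
import Cfsg.Agent.Lib.HNRecog.Classes.OneChkRowC
import Cfsg.Agent.Lib.HNRecog.Classes.OneChkRowD
import Cfsg.Agent.Lib.HNRecog.Classes.OneChkMisc
import Cfsg.Agent.Lib.HNRecog.Classes.OneChkMoveA
import Cfsg.Agent.Lib.HNRecog.Classes.OneChkMoveB
import Cfsg.Agent.Lib.HNRecog.Classes.OneChkMoveC
import Cfsg.Agent.Lib.HNRecog.Classes.OneChkMoveD
import Cfsg.Agent.Lib.HNRecog.Classes.OneChkSig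
import Cfsg.Agent.Lib.HNRecog.Classes.OneChkInv

/-!
The presented Harada-Norton group has two classes of involutions, and they are different.
-/

set_option autoImplicit false
set_option maxRecDepth 100000
set_option linter.style.haveILetI false

namespace Cfsg.Agent.HNRecog.Classes

open Cfsg.Agent.HN

noncomputable section

attribute [local irreducible] repT rowT commT repW owT ohT stT mvT pkT wsT shT witT1 wd kd

/-- The element of generator `g`. -/
def gG (g : ℕ) : Cfsg.Spor.HN := ev (genW g)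

/-- Coset `j`. -/
def ptJ (j : ℕ) : Dat.xd.O.Pt :=
  if h : stK j < Dat.xd.O.nodes.length then Dat.xd.O.pt (stK j) h (el (stU j)) else base

theorem gens_len : Dat.gens.length = 4 := rep_base.2.2

theorem repC_zero : ev (repC 0) = 1 := by rw [rep_base.1]; rfl

theorem gG_syl {g : ℕ} (hg : g < 4) : gG g = psiHN (eS (Dat.gens.getD g 0)) := by
  have h : Nat.blt g 4 = true := by rwa [Nat.blt_eq]
  rw [gG, genW, h, cond_true, ev_wd (gen_lt (gens_len ▸ hg))]

theorem gG_rep {c : ℕ} (hc : 1 ≤ c) : gG (c + 3) = ev (repC c) := by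
  have h : Nat.blt (c + 3) 4 = false := by rw [← Bool.not_eq_true, Nat.blt_eq]; omega
  rw [gG, genW, h, cond_false]
  rfl

theorem row_spec {c g : ℕ} (hc : c < 8) (hg : g < 11) :
    ∃ e < 8, ∃ i < 2048, ev (repC c) * gG g = psiHN (eS i) * ev (repC e) := by
  have h : okRow c g = true := by
    refine allLo_spec ?_ hg
    interval_cases c
    exacts [rows_ok0, rows_ok1, rows_ok2, rows_ok3, rows_ok4, rows_ok5, rows_ok6, rows_ok7]
  simp only [okRow, Bool.and_eq_true, Nat.blt_eq] at h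
  refine ⟨_, h.1.1, _, h.1.2, ?_⟩
  have e := same_spec h.2
  rwa [ev_append, ev_append, ev_wd h.1.2] at e

/-- The Sylow 2-subgroup. -/
def SylP : Subgroup Cfsg.Spor.HN := Subgroup.closure {x | ∃ g < 11, gG g = x}

theorem psi_mem {i : ℕ} (hi : i < 2048) : psiHN (eS i) ∈ SylP := by
  have hle : Syl ≤ SylP.comap psiHN := by
    rw [Syl, Subgroup.closure_le]
    rintro a ⟨g, hg, rfl⟩
    rw [gens_len] at hg
    exact Subgroup.subset_closure ⟨g, by omega, gG_syl hg⟩
  exact hle (eS_mem i hi)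

theorem rep_mem {c : ℕ} (hc : c < 8) : ev (repC c) ∈ SylP := by
  rcases Nat.eq_zero_or_pos c with rfl | h
  · rw [repC_zero]; exact one_mem _
  · exact Subgroup.subset_closure ⟨c + 3, by omega, gG_rep h⟩

theorem mem_SylP {x : Cfsg.Spor.HN} :
    x ∈ SylP ↔ ∃ c < 8, ∃ i < 2048, x = psiHN (eS i) * ev (repC c) := by
  haveI := finite_HN Dat.xok
  refine ⟨fun hx => ?_, fun ⟨c, hc, i, hi, e⟩ => e ▸ mul_mem (psi_mem hi) (rep_mem hc)⟩
  rw [SylP, ← Subgroup.mem_toSubmonoid, Subgroup.closure_toSubmonoid_of_finite] at hx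
  induction hx using Submonoid.closure_induction_right with
  | one => exact ⟨0, by norm_num, 0, by norm_num, by rw [eS_zero, map_one, one_mul, repC_zero]⟩
  | mul_right x _ y hy hx =>
    obtain ⟨g, hg, rfl⟩ := hy
    obtain ⟨c, hc, i, hi, rfl⟩ := hx
    obtain ⟨e, he, j, hj, hr⟩ := row_spec hc hg
    obtain ⟨k, hk, hek⟩ := mem_Syl.1 (mul_mem (eS_mem i hi) (eS_mem j hj))
    exact ⟨e, he, k, hk, by rw [mul_assoc, hr, ← mul_assoc, ← map_mul, hek]⟩

theorem sig_getD {l : List (List Hint × ℕ)} : ∀ {l' : List (List Hint × ℕ)}, l.length = l'.length →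
    (∀ m < l.length, (l.getD m ([], 9)).2 = (l'.getD m ([], 9)).2) → sigN l = sigN l' := by
  induction l with
  | nil => intro l' h _; cases l' <;> simp_all
  | cons a l ih =>
    intro l' h hm
    cases l' with
    | nil => simp at h
    | cons b l' =>
      show a.2 + 10 * sigN l = b.2 + 10 * sigN l'
      rw [ih (by simpa using h) fun m hm' => by
        have := hm (m + 1) (by simpa using hm')
        simpa using this, show a.2 = b.2 by simpa using hm 0 (by simp)]

theorem osig_inj {c d : ℕ} (hc : c < 8) (hd : d < 8)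
    (h : act (ev (repC c)) base = act (ev (repC d)) base) : c = d := by
  have spec : ∀ {c : ℕ}, c < 8 → (ohT.getD c []).length = owT.length ∧ ∀ m < owT.length,
      ((act (ev (owT.getD m [])) (act (ev (repC c)) base)).1 : ℕ) = ((ohT.getD c []).getD m ([], 9)).2 := by
    intro c hc
    have hk := allLo_spec osig_ok hc
    simp only [okOSig, Bool.and_eq_true, Nat.beq_eq] at hk
    refine ⟨hk.1, fun m hm => ?_⟩
    rw [← act_mul, ← ev_append]
    exact node_spec (allLo_spec hk.2 hm) Dat.xok.node0.1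
  have e : sigN (ohT.getD c []) = sigN (ohT.getD d []) := by
    refine sig_getD ((spec hc).1.trans (spec hd).1.symm) fun m hm => ?_
    rw [(spec hc).1] at hm
    rw [← (spec hc).2 m hm, ← (spec hd).2 m hm, h]
  have hdis := distinct_ok
  simp only [okDistinct, Bool.and_eq_true] at hdis
  rcases lt_trichotomy c d with hlt | rfl | hlt
  · have := allLo_spec (allLo_spec hdis.2 hd) hlt
    rw [e, Nat.beq_refl] at this; exact Bool.noConfusion this
  · rfl
  · have := allLo_spec (allLo_spec hdis.2 hc) hlt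
    rw [← e, Nat.beq_refl] at this; exact Bool.noConfusion this

theorem card_SylP : Nat.card SylP = 2 ^ 14 := by
  let f : Fin 8 × Fin 2048 → SylP := fun p =>
    ⟨psiHN (eS p.2) * ev (repC p.1), mem_SylP.2 ⟨_, p.1.2, _, p.2.2, rfl⟩⟩
  have hf : Function.Bijective f := by
    refine ⟨fun p q h => ?_, fun ⟨x, hx⟩ => ?_⟩
    · have e : psiHN (eS p.2) * ev (repC p.1) = psiHN (eS q.2) * ev (repC q.1) := congrArg Subtype.val h
      have e0 := congrArg (fun g => act g base) e
      simp only [act_mul, act_base.2 (MonoidHom.mem_range.2 ⟨_, rfl⟩)] at e0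
      have hc : p.1 = q.1 := Fin.ext (osig_inj p.1.2 q.1.2 e0)
      rw [hc, mul_left_inj] at e
      exact Prod.ext hc (Fin.ext (eS_injective p.2.2 q.2.2 (psiHN_injective Dat.xok e)))
    · obtain ⟨c, hc, i, hi, rfl⟩ := mem_SylP.1 hx
      exact ⟨(⟨c, hc⟩, ⟨i, hi⟩), rfl⟩
  rw [← Nat.card_eq_of_bijective f hf, Nat.card_prod, Nat.card_fin, Nat.card_fin]
  norm_num

theorem pt_spec {j : ℕ} (hj : j < 144) :
    ∃ hk : stK j < Dat.xd.O.nodes.length, ptJ j = Dat.xd.O.pt (stK j) hk (el (stU j)) ∧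
      act (ev (stW j)) base = ptJ j := by
  obtain ⟨_, hk', e⟩ := move_spec (allLo_spec st_ok hj)
  have hp : ptJ j = Dat.xd.O.pt (stK j) hk' (el (stU j)) := dif_pos hk'
  exact ⟨hk', hp, hp ▸ e⟩

theorem move_gen {g j : ℕ} (hg : g < 11) (hj : j < 144) :
    imgG g j < 144 ∧ act (gG g) (ptJ j) = ptJ (imgG g j) := by
  have hm : allLo (okMv g) 144 = true := by
    interval_cases g
    exacts [moves_ok0, moves_ok1, moves_ok2, moves_ok3, moves_ok4, moves_ok5, moves_ok6, moves_ok7, moves_ok8,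
      moves_ok9, moves_ok10]
  have h := allLo_spec hm hj
  simp only [okMv, Bool.and_eq_true, Nat.blt_eq] at h
  obtain ⟨_, hk', e⟩ := move_spec h.2
  obtain ⟨_, hp, -⟩ := pt_spec hj
  obtain ⟨_, hp', -⟩ := pt_spec h.1
  exact ⟨h.1, by rw [hp, hp']; exact e⟩

theorem ptJ_inj {i j : ℕ} (hi : i < 144) (hj : j < 144) (h : ptJ i = ptJ j) : i = j := by
  have spec : ∀ {j : ℕ}, j < 144 → (shT.getD j []).length = wsT.length ∧ ∀ m < wsT.length,
      ((act (ev (wsT.getD m [])) (ptJ j)).1 : ℕ) = ((shT.getD j []).getD m ([], 9)).2 := by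
    intro j hj
    have hk := allLo_spec sig_ok hj
    simp only [okSig, Bool.and_eq_true, Nat.beq_eq] at hk
    obtain ⟨hn, hp, -⟩ := pt_spec hj
    refine ⟨hk.1, fun m hm => ?_⟩
    rw [hp]
    exact node_spec (allLo_spec hk.2 hm) hn
  have e : sigN (shT.getD i []) = sigN (shT.getD j []) := by
    refine sig_getD ((spec hi).1.trans (spec hj).1.symm) fun m hm => ?_
    rw [(spec hi).1] at hm
    rw [← (spec hi).2 m hm, ← (spec hj).2 m hm, h]
  have hdis := distinct_ok
  simp only [okDistinct, Bool.and_eq_true] at hdis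
  rcases lt_trichotomy i j with hlt | rfl | hlt
  · have := allLo_spec (allLo_spec hdis.1 hj) hlt
    rw [e, Nat.beq_refl] at this; exact Bool.noConfusion this
  · rfl
  · have := allLo_spec (allLo_spec hdis.1 hi) hlt
    rw [← e, Nat.beq_refl] at this; exact Bool.noConfusion this

theorem img_spec : ∀ (f : ℕ) {i : ℕ}, i < 2048 → depOK f i = true → ∀ {j : ℕ}, j < 144 →
    imgS f i j < 144 ∧ act (psiHN (eS i)) (ptJ j) = ptJ (imgS f i j) := by
  intro f
  induction f with
  | zero =>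
    intro i _ hd j hj
    have h0 : i = 0 := Nat.eq_of_beq_eq_true hd
    subst h0
    exact ⟨hj, by rw [eS_zero, map_one, act_one]; rfl⟩
  | succ f ih =>
    intro i hi hd j hj
    rcases Nat.eq_zero_or_pos i with rfl | hpos
    · exact ⟨hj, by rw [eS_zero, map_one, act_one]; rfl⟩
    have hb : Nat.beq i 0 = false := by rw [← Bool.not_eq_true, Nat.beq_eq]; omega
    change (Nat.beq i 0 || depOK f (parI' i)) = true at hd
    rw [hb, Bool.false_or] at hd
    show Bool.rec (imgG (parG i) (imgS f (parI' i) j)) j (Nat.beq i 0) < 144 ∧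
      act (psiHN (eS i)) (ptJ j) = ptJ (Bool.rec (imgG (parG i) (imgS f (parI' i) j)) j (Nat.beq i 0))
    rw [hb]
    have h := allLo_spec close_ok hi
    simp only [okClose, Bool.and_eq_true, Bool.or_eq_true, Nat.beq_eq, Nat.blt_eq] at h
    obtain ⟨⟨hp, hg⟩, he⟩ := h.2.resolve_left (by omega)
    have hg4 : parG i < 4 := gens_len ▸ hg
    have hs := (close_spec (hp.trans hi) hg).2
    rw [he] at hs
    obtain ⟨h1, e1⟩ : imgS f (parI' i) j < 144 ∧
        act (psiHN (eS (parI' i))) (ptJ j) = ptJ (imgS f (parI' i) j) := ih (hp.trans hi) hd hj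
    obtain ⟨h2, e2⟩ := move_gen (show parG i < 11 by omega) h1
    refine ⟨h2, ?_⟩
    rw [show eS i = eS (parI' i) * eS (Dat.gens.getD (parG i) 0) from hs.symm, map_mul, act_mul, e1,
      ← gG_syl hg4, e2]

/-- An involution is conjugate into the group of `x, y, z`. -/
theorem fixes_point {y : Cfsg.Spor.HN} (hy : orderOf y = 2) :
    ∃ (g : Cfsg.Spor.HN) (a : H0), g * y * g⁻¹ = psiHN a := by
  haveI := finite_HN Dat.xok
  haveI : Fact (Nat.Prime 2) := ⟨Nat.prime_two⟩
  have hS : Nat.card SylP = 2 ^ (Nat.card Cfsg.Spor.HN).factorization 2 := by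
    have hf : (Nat.card Cfsg.Spor.HN).factorization 2 = 14 := by
      rw [card_HN Dat.xok, show (273030912000000 : ℕ) = 2 ^ 14 * 16664484375 by norm_num,
        Nat.factorization_mul (by norm_num) (by norm_num), Finsupp.add_apply, Nat.factorization_pow_self Nat.prime_two,
        Nat.factorization_eq_zero_of_not_dvd (by norm_num)]
    rw [card_SylP, hf]
  let P : Sylow 2 Cfsg.Spor.HN := Sylow.ofCard SylP hS
  obtain ⟨Q, hQ⟩ := (IsPGroup.of_card (n := 1) (G := Subgroup.zpowers y) (by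
    rw [Nat.card_zpowers, hy, pow_one])).exists_le_sylow
  obtain ⟨q, hq⟩ := MulAction.exists_smul_eq Cfsg.Spor.HN Q P
  have hmem : q * y * q⁻¹ ∈ SylP := by
    have e : q * y * q⁻¹ ∈ ((q • Q : Sylow 2 Cfsg.Spor.HN) : Subgroup Cfsg.Spor.HN) := by
      rw [Sylow.smul_def]
      exact Subgroup.smul_mem_pointwise_smul y (MulAut.conj q) Q (hQ (Subgroup.mem_zpowers y))
    rw [hq] at e
    exact e
  obtain ⟨c, hc, i, hi, hx⟩ := mem_SylP.1 hmem
  rcases Nat.eq_zero_or_pos c with rfl | hpos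
  · exact ⟨q, eS i, by rw [hx, repC_zero, mul_one]⟩
  set x := psiHN (eS i) * ev (repC c) with hxdef
  have hx2 : x * x = 1 := by
    rw [← hx, show q * y * q⁻¹ * (q * y * q⁻¹) = q * (y * y) * q⁻¹ by group, ← pow_two, ← hy, pow_orderOf_eq_one,
      mul_one, mul_inv_cancel]
  have hI := allLo_spec (allLo_spec inv_ok (show c - 1 < 7 by omega)) hi
  rw [show Nat.succ (c - 1) = c by omega] at hI
  simp only [okInv, Bool.and_eq_true, Nat.blt_eq] at hI
  obtain ⟨⟨hj, hd⟩, hI⟩ := hI
  set j := witC c i with hjdef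
  have step : ∀ {j : ℕ}, j < 144 → imgG (c + 3) (imgS 9 i j) < 144 ∧
      act x (ptJ j) = ptJ (imgG (c + 3) (imgS 9 i j)) := by
    intro j hj
    obtain ⟨h1, e1⟩ := img_spec 9 hi hd hj
    obtain ⟨h2, e2⟩ := move_gen (show c + 3 < 11 by omega) h1
    exact ⟨h2, by rw [hxdef, act_mul, e1, ← gG_rep hpos, e2]⟩
  obtain ⟨h1, e1⟩ := step hj
  obtain ⟨h2, e2⟩ := step h1
  have hjj : imgG (c + 3) (imgS 9 i (imgG (c + 3) (imgS 9 i j))) = j := by
    refine ptJ_inj h2 hj ?_
    rw [← e2, ← e1, ← act_mul, hx2, act_one]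
  have hfix : imgG (c + 3) (imgS 9 i j) = j := by
    simp only [Bool.or_eq_true, Nat.beq_eq, Bool.not_eq_true'] at hI
    rcases hI with h | h
    · exact h
    · rw [show Nat.add c 3 = c + 3 from rfl, hjj, Nat.beq_refl] at h
      exact Bool.noConfusion h
  rw [hfix] at e1
  obtain ⟨-, -, hw⟩ := pt_spec hj
  obtain ⟨a, ha⟩ := act_base.1 (show act (ev (stW j) * x * (ev (stW j))⁻¹) base = base by
    rw [act_mul, act_mul, hw, e1]
    nth_rw 1 [← hw]
    exact act_inv _ _)
  refine ⟨ev (stW j) * q, a, ?_⟩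
  rw [ha, ← hx]
  group

theorem rep5_conj {r : ℕ} (hr : r < 5) :
    IsConj T0 (psiHN (eS (Dat.reps.getD r 0))) ∨ IsConj W0 (psiHN (eS (Dat.reps.getD r 0))) := by
  have h := allLo_spec rep5_ok hr
  simp only [okRep5, Bool.and_eq_true, Bool.or_eq_true, Nat.blt_eq, Nat.beq_eq] at h
  obtain ⟨hl, ⟨h | h⟩ | h⟩ := h
  · rw [h, special_spec.2.2.2.1]; exact Or.inl (IsConj.refl _)
  · rw [h]; exact Or.inr (IsConj.refl _)
  · have hc := isConj_of_same h
    rw [ev_wd hl] at hc
    cases hb : (repW.getD r (false, [], [])).1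
    · rw [hb, cond_false, ev_T] at hc; exact Or.inl hc.symm
    · rw [hb, cond_true, ev_W] at hc; exact Or.inr hc.symm

/-- **Every involution is conjugate to one of two.** -/
theorem invol_classes (y : Cfsg.Spor.HN) (hy : orderOf y = 2) : IsConj T0 y ∨ IsConj W0 y := by
  haveI := finite_H0
  haveI : Fact (Nat.Prime 2) := ⟨Nat.prime_two⟩
  obtain ⟨g, a, hg⟩ := fixes_point hy
  have ha2 : a * a = 1 := psiHN_injective Dat.xok (by
    rw [map_mul, map_one, ← hg, show g * y * g⁻¹ * (g * y * g⁻¹) = g * (y * y) * g⁻¹ by group, ← pow_two, ← hy,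
      pow_orderOf_eq_one, mul_one, mul_inv_cancel])
  have ha1 : a ≠ 1 := fun e => by
    rw [e, map_one, conj_eq_one_iff] at hg
    rw [hg, orderOf_one] at hy
    omega
  have hS : Nat.card Syl = 2 ^ (Nat.card H0).factorization 2 := by
    have hf : (Nat.card H0).factorization 2 = 11 := by
      rw [card_H0, show (177408000 : ℕ) = 2 ^ 11 * 86625 by norm_num,
        Nat.factorization_mul (by norm_num) (by norm_num), Finsupp.add_apply, Nat.factorization_pow_self Nat.prime_two,
        Nat.factorization_eq_zero_of_not_dvd (by norm_num)]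
    rw [card_Syl, hf]
    norm_num
  obtain ⟨Q, hQ⟩ := (IsPGroup.of_card (n := 1) (G := Subgroup.zpowers a) (by
    rw [Nat.card_zpowers, orderOf_eq_prime (by rw [pow_two, ha2]) ha1, pow_one])).exists_le_sylow
  obtain ⟨q, hq⟩ := MulAction.exists_smul_eq H0 Q (Sylow.ofCard Syl hS)
  have hmem : q * a * q⁻¹ ∈ Syl := by
    have e : q * a * q⁻¹ ∈ ((q • Q : Sylow 2 H0) : Subgroup H0) := by
      rw [Sylow.smul_def]
      exact Subgroup.smul_mem_pointwise_smul a (MulAut.conj q) Q (hQ (Subgroup.mem_zpowers a))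
    rw [hq] at e
    exact e
  obtain ⟨i, hi, hei⟩ := mem_Syl.1 hmem
  have hi0 : i ≠ 0 := fun e => by
    rw [e, eS_zero, eq_comm, conj_eq_one_iff] at hei
    exact ha1 hei
  have hs : sqI i = 0 := (sq_one_iff hi).1 (by
    rw [hei, show q * a * q⁻¹ * (q * a * q⁻¹) = q * (a * a) * q⁻¹ by group, ha2, mul_one, mul_inv_cancel])
  obtain ⟨hr, -, hw⟩ := wit_spec hi hi0 hs
  have c1 : IsConj (psiHN (eS (Dat.reps.getD (clsI i) 0))) (psiHN (eS i)) :=
    isConj_iff.2 ⟨(psiHN (el (conjI i)))⁻¹, by rw [inv_inv, ← map_inv, ← map_mul, ← map_mul, hw]⟩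
  have c2 : IsConj (psiHN (eS i)) y := by
    refine isConj_iff.2 ⟨(psiHN q * g)⁻¹, ?_⟩
    rw [hei, map_mul, map_mul, map_inv, ← hg]
    group
  exact (rep5_conj hr).imp (fun h => (h.trans c1).trans c2) fun h => (h.trans c1).trans c2

theorem SylP_le : SylP ≤ Subgroup.centralizer {W0} := by
  rw [SylP, Subgroup.closure_le]
  rintro x ⟨g, hg, rfl⟩
  rw [SetLike.mem_coe, Subgroup.mem_centralizer_singleton_iff]
  rcases Nat.lt_or_ge g 4 with h4 | h4
  · have h := (commI_iff special_spec.2.2.1 (gen_lt (gens_len ▸ h4))).1 (allLo_spec syl_comm h4)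
    rw [gG_syl h4, W0, ← map_mul, ← map_mul, h]
  · obtain ⟨c, rfl⟩ : ∃ c, g = c + 3 := ⟨g - 3, by omega⟩
    have h := same_spec (allLo_spec comm_ok (show c < 8 by omega))
    rw [ev_append, ev_append, ev_W] at h
    rw [gG_rep (by omega), h]

/-- The two classes differ. -/
theorem not_conj_T0_W0 : ¬IsConj T0 W0 := by
  intro h
  haveI := finite_HN Dat.xok
  obtain ⟨g, hg⟩ := isConj_iff.1 h
  let f : SylP → psiHN.range := fun x => ⟨g⁻¹ * x * g, by
    refine HNOut.cent_x2.1 ?_
    have hx := Subgroup.mem_centralizer_singleton_iff.1 (SylP_le x.2)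
    rw [← hg] at hx
    show g⁻¹ * x * g * T0 = T0 * (g⁻¹ * x * g)
    calc g⁻¹ * x * g * T0 = g⁻¹ * (x * (g * T0 * g⁻¹)) * g := by group
      _ = g⁻¹ * (g * T0 * g⁻¹ * x) * g := by rw [hx]
      _ = T0 * (g⁻¹ * x * g) := by group⟩
  let φ : SylP →* psiHN.range :=
    { toFun := f, map_one' := Subtype.ext (by simp [f]), map_mul' := fun a b => Subtype.ext (by simp [f]; group) }
  have hinj : Function.Injective φ := fun a b e =>
    Subtype.ext (mul_left_cancel (mul_right_cancel (congrArg Subtype.val e)))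
  have hd := Subgroup.card_dvd_of_injective φ hinj
  rw [card_SylP, card_range Dat.xok] at hd
  norm_num at hd

end

end Cfsg.Agent.HNRecog.Classes
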