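import Cfsg.Agent.Lib.HN.A12Main
import Cfsg.Agent.Lib.HNOut.Main
import Cfsg.Agent.Lib.HNRecog.Local.Table

/-!
Words in the presented group compared on seven cosets, and the cosets reached by words.
-/

set_option autoImplicit false
set_option maxRecDepth 100000

namespace Cfsg.Agent.HNRecog.Classes

open Cfsg.Agent.HN

noncomputable section

/-- The value of a word of atoms. -/
def ev (W : List ℕ) : Cfsg.Spor.HN := wv hnG W

/-- The central involution of the group of `x, y, z`. -/
def T0 : Cfsg.Spor.HN := psiHN (hx ^ 2)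

/-- The involution of the second class in it. -/
def W0 : Cfsg.Spor.HN := psiHN (eS iAT)

/-- The two words of a pair lead to the same coset from start `j`. -/
def okPair (W1 W2 : List ℕ) (L : List (List Hint × List Hint × ℕ)) (j : ℕ) : Bool :=
  let e := L.getD j ([], [], 0)
  match Dat.xd.O.runH W1 e.1 (startK j) (startU Dat.altU j),
      Dat.xd.O.runH W2 e.2.1 (startK j) (startU Dat.altU j) with
  | some (k1, u1), some (k2, u2) => Nat.beq k1 k2 && codeOK (Dat.xd.O.node k1).chain e.2.2 &&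
      eqH u1 (prodW (Dat.xd.O.node k1).chain e.2.2 ++ u2)
  | _, _ => false

/-- Two words give the same element. -/
def okSame (W1 W2 : List ℕ) (L : List (List Hint × List Hint × ℕ)) : Bool :=
  okAtoms W1 && okAtoms W2 && allLo (okPair W1 W2 L) 7

/-- A word leads from a coset to another one. -/
def okMove (W : List ℕ) (hs : List Hint) (v k : ℕ) (u : List ℕ) (k' : ℕ) (u' : List ℕ) : Bool :=
  okAtoms W && Nat.blt k Dat.xd.O.nodes.length && Nat.blt k' Dat.xd.O.nodes.length &&
  match Dat.xd.O.runH W hs k u with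
  | some (k1, u1) => Nat.beq k1 k' && codeOK (Dat.xd.O.node k1).chain v &&
      eqH u1 (prodW (Dat.xd.O.node k1).chain v ++ u')
  | none => false

/-- A word leads from a coset into a node. -/
def okNode (W : List ℕ) (hs : List Hint) (k : ℕ) (u : List ℕ) (k' : ℕ) : Bool :=
  okAtoms W && Nat.blt k Dat.xd.O.nodes.length &&
  match Dat.xd.O.runH W hs k u with
  | some (k1, _) => Nat.beq k1 k'
  | none => false

theorem ev_nil : ev [] = 1 := rfl

theorem ev_append (u v : List ℕ) : ev (u ++ v) = ev u * ev v := wv_append _ u v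

theorem ev_letters {w : List ℕ} (h : letOK 5 w = true) : ev w = psiHN (el w) := wv_atomG_letters (letOK_spec h)

theorem ev_wd {i : ℕ} (hi : i < 2048) : ev (wd i) = psiHN (eS i) := ev_letters (word_spec hi).1

theorem ev_T : ev [0, 0] = T0 := by
  rw [ev_letters (by decide +kernel), T0, sq]
  exact congrArg psiHN (by simp [el, wv, g5])

theorem ev_W : ev (wd iAT) = W0 := ev_wd special_spec.2.2.1

/-- The right action on cosets. -/
def act (g : Cfsg.Spor.HN) (p : Dat.xd.O.Pt) : Dat.xd.O.Pt := (modelHom Dat.xok g)⁻¹ p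

/-- The first coset. -/
def base : Dat.xd.O.Pt := basePt Dat.xok

theorem act_mul (g h : Cfsg.Spor.HN) (p : Dat.xd.O.Pt) : act (g * h) p = act h (act g p) := by
  rw [act, map_mul, mul_inv_rev, Equiv.Perm.mul_apply]; rfl

theorem act_one (p : Dat.xd.O.Pt) : act 1 p = p := by
  rw [act, map_one, inv_one, Equiv.Perm.one_apply]

theorem act_inv (g : Cfsg.Spor.HN) (p : Dat.xd.O.Pt) : act g⁻¹ (act g p) = p := by
  rw [← act_mul, mul_inv_cancel, act_one]

theorem act_ev {W : List ℕ} (hW : okAtoms W = true) (p : Dat.xd.O.Pt) :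
    act (ev W) p = Dat.xok.omega.act W p := (act_eq Dat.xok W hW p).symm

theorem act_base {g : Cfsg.Spor.HN} : act g base = base ↔ g ∈ psiHN.range := by
  constructor
  · intro h
    refine stab_base Dat.xok ?_
    rw [act, Equiv.Perm.inv_eq_iff_eq] at h
    exact h.symm
  · rintro ⟨b, rfl⟩
    rw [act, Equiv.Perm.inv_eq_iff_eq]
    exact (psi_fix Dat.xok b).symm

/-- An element fixing the seven cosets is trivial. -/
theorem eq_one_of_starts {g : Cfsg.Spor.HN}
    (hfix : ∀ j < 7, ∀ hk : startK j < Dat.xd.O.nodes.length,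
      modelHom Dat.xok g (Dat.xd.O.pt _ hk (el (startU Dat.altU j))) = Dat.xd.O.pt _ hk (el (startU Dat.altU j))) :
    g = 1 := by
  obtain ⟨hn1, hg⟩ := (Dat.xok).node1
  simp only [List.all_eq_true, Bool.and_eq_true, Nat.beq_eq] at hg
  have hle : Dat.xd.O.sgrp 1 ≤ stab0 := by
    rw [OData.sgrp, grp, Subgroup.closure_le]
    rintro a ⟨g, hgm, rfl⟩
    exact mem_stab0.2 (Fin.ext (by rw [pi_el (hg g hgm).2, (hg g hgm).1]; simp [pi]))
  obtain ⟨b, hb⟩ := stab_base Dat.xok (hfix 0 (by norm_num) Dat.xok.node0.1)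
  rw [← hb]
  suffices b = 1 by rw [this, map_one]
  refine fix_trivial fun q hq => ?_
  rw [chain_pts] at hq
  have hU := Dat.altU_ok
  simp only [okU, Bool.and_eq_true, Nat.beq_eq] at hU
  obtain ⟨i, hi, hiq⟩ := List.mem_iff_getElem.1 hq
  have hu := allLo_spec hU.2 (hU.1 ▸ hi)
  simp only [Bool.and_eq_true, Nat.beq_eq, List.getD_eq_getElem _ _ hi, hiq] at hu
  set u := unp (Dat.altU.getD i 0) with hudef
  have e : Dat.xd.O.rho b (Dat.xd.O.pt 1 hn1 (el u)) = Dat.xd.O.pt 1 hn1 (el u) := by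
    have := hfix (i + 1) (by have := hU.1; omega) hn1
    rw [← hb, modelHom_psi] at this
    exact this
  have e' := OData.rho_pt (O := Dat.xd.O) hn1 b⁻¹ (el u)
  rw [inv_inv, e] at e'
  have hm := hle (OData.pt_mem hn1 e')
  have e2 : pi ((el u)⁻¹) = pi (b * (el u)⁻¹) := pi_eq_iff.2 (by convert hm using 1; group)
  have hq' : pi ((el u)⁻¹) = q := Fin.ext (by rw [← el_winv, pi_el hu.1]; exact hu.2)
  rw [pi_mul, hq'] at e2
  exact e2.symm

theorem same_spec {W1 W2 : List ℕ} {L : List (List Hint × List Hint × ℕ)} (h : okSame W1 W2 L = true) :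
    ev W1 = ev W2 := by
  simp only [okSame, Bool.and_eq_true] at h
  obtain ⟨⟨a1, a2⟩, h⟩ := h
  have key : ∀ j < 7, ∀ hk : startK j < Dat.xd.O.nodes.length,
      act (ev W1) (Dat.xd.O.pt _ hk (el (startU Dat.altU j))) =
        act (ev W2) (Dat.xd.O.pt _ hk (el (startU Dat.altU j))) := by
    intro j hj hk
    have hp := allLo_spec h hj
    unfold okPair at hp
    simp only at hp
    split at hp
    · rename_i k1 u1 k2 u2 r1 r2
      simp only [Bool.and_eq_true, Nat.beq_eq] at hp
      obtain ⟨⟨rfl, hv⟩, he⟩ := hp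
      obtain ⟨n1, e1⟩ := runH_spec Dat.xok.omega W1 _ _ hk _ _ _ r1
      obtain ⟨n2, e2⟩ := runH_spec Dat.xok.omega W2 _ _ hk _ _ _ r2
      rw [act_ev a1, act_ev a2, e1, e2, el_eq he, el_append]
      exact OData.pt_mul_left _ (prodW_mem (Dat.xok.omega.chain _ n1) hv)
    · exact absurd hp Bool.false_ne_true
  refine mul_inv_eq_one.1 (eq_one_of_starts fun j hj hk => ?_)
  have e := key j hj hk
  rw [act, act, Equiv.Perm.inv_eq_iff_eq] at e
  rw [map_mul, Equiv.Perm.mul_apply, map_inv]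
  conv_lhs => rw [show (modelHom Dat.xok (ev W2))⁻¹ (Dat.xd.O.pt _ hk (el (startU Dat.altU j))) =
    (modelHom Dat.xok (ev W1))⁻¹ (Dat.xd.O.pt _ hk (el (startU Dat.altU j))) from (key j hj hk).symm]
  exact Equiv.apply_symm_apply (modelHom Dat.xok (ev W1)) _

theorem move_spec {W : List ℕ} {hs : List Hint} {v k : ℕ} {u : List ℕ} {k' : ℕ} {u' : List ℕ}
    (h : okMove W hs v k u k' u' = true) :
    ∃ hk : k < Dat.xd.O.nodes.length, ∃ hk' : k' < Dat.xd.O.nodes.length,
      act (ev W) (Dat.xd.O.pt k hk (el u)) = Dat.xd.O.pt k' hk' (el u') := by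
  unfold okMove at h
  simp only [Bool.and_eq_true, Nat.blt_eq] at h
  obtain ⟨⟨⟨hW, hk⟩, hk'⟩, h⟩ := h
  refine ⟨hk, hk', ?_⟩
  split at h
  · rename_i k1 u1 r
    simp only [Bool.and_eq_true, Nat.beq_eq] at h
    obtain ⟨⟨rfl, hv⟩, he⟩ := h
    obtain ⟨n1, e1⟩ := runH_spec Dat.xok.omega W _ _ hk _ _ _ r
    rw [act_ev hW, e1, el_eq he, el_append]
    exact OData.pt_mul_left _ (prodW_mem (Dat.xok.omega.chain _ n1) hv)
  · exact absurd h Bool.false_ne_true

theorem node_spec {W : List ℕ} {hs : List Hint} {k : ℕ} {u : List ℕ} {k' : ℕ}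
    (h : okNode W hs k u k' = true) (hk : k < Dat.xd.O.nodes.length) :
    ((act (ev W) (Dat.xd.O.pt k hk (el u))).1 : ℕ) = k' := by
  unfold okNode at h
  simp only [Bool.and_eq_true, Nat.blt_eq] at h
  obtain ⟨⟨hW, -⟩, h⟩ := h
  split at h
  · rename_i k1 u1 r
    rw [Nat.beq_eq] at h
    obtain ⟨n1, e1⟩ := runH_spec Dat.xok.omega W _ _ hk _ _ _ r
    rw [act_ev hW, e1, ← h]
    rfl
  · exact absurd h Bool.false_ne_true

/-- A witness identity gives conjugacy. -/
theorem isConj_of_same {g a b : List ℕ} {L : List (List Hint × List Hint × ℕ)}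
    (h : okSame (g ++ a) (b ++ g) L = true) : IsConj (ev a) (ev b) := by
  have e := same_spec h
  rw [ev_append, ev_append] at e
  exact isConj_iff.2 ⟨ev g, by rw [e, mul_inv_cancel_right]⟩

end

end Cfsg.Agent.HNRecog.Classes
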