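import Cfsg.Agent.Lib.HNRecog.Classes.ThreeNodes

/-!
Classes of involutions of the group of `x, y, z` read from the table.
-/

set_option autoImplicit false
set_option maxRecDepth 100000
set_option linter.style.haveILetI false

namespace Cfsg.Agent.HNRecog.Classes

open Cfsg.Agent.HN Cfsg.Agent.HNMult

noncomputable section

/-- The second member of the four-group. -/
def V1 : Cfsg.Spor.HN := psiHN (eS 48)

/-- The entries of the class of `T0` are those marked in the table. -/
def Labelled : Prop := ∀ i < 2048, IsConj T0 (psiHN (eS i)) ↔ TI i = true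

theorem isConj_conj_iff (g x : Cfsg.Spor.HN) : IsConj T0 (g * x * g⁻¹) ↔ IsConj T0 x :=
  ⟨fun h => h.trans (isConj_iff.2 ⟨g⁻¹, by group⟩), fun h => h.trans (isConj_iff.2 ⟨g, rfl⟩)⟩

theorem psi_eq_iff {a b : H0} : psiHN a = psiHN b ↔ a = b :=
  (psiHN_injective HN.Dat.xok).eq_iff

theorem eS_iT' : eS iT = hx ^ 2 := special_spec.2.2.2.1

theorem psi_iT : psiHN (eS iT) = T0 := by rw [eS_iT', T0]

theorem sq_zero {i : ℕ} (hi : i < 2048) (h : eS i * eS i = 1) : sqI i = 0 := (sq_one_iff hi).1 h

/-- The class of the image of a product of entries. -/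
theorem label_mul (hlab : Labelled) {i j : ℕ} (hi : i < 2048) (hj : j < 2048) :
    IsConj T0 (psiHN (eS i) * psiHN (eS j)) ↔ TI (mulI i j) = true := by
  rw [← map_mul, ← (mulI_spec hi hj).2]
  exact hlab _ (mulI_spec hi hj).1

theorem not_label {a : Bool} {p : Prop} (h : p ↔ a = true) : ¬ p ↔ a = false := by
  rw [h]; simp

/-- A commutative subgroup generated by involutions is a 2-group. -/
theorem isPGroup_closure {G : Type*} [Group G] {S : Set G} (h2 : ∀ a ∈ S, a * a = 1)
    (hc : ∀ a ∈ S, ∀ b ∈ S, a * b = b * a) : IsPGroup 2 (Subgroup.closure S) := by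
  letI : CommGroup (Subgroup.closure S) :=
    { (inferInstance : Group (Subgroup.closure S)) with
      mul_comm := fun a b => by
        refine Subtype.ext ?_
        obtain ⟨a, ha⟩ := a
        obtain ⟨b, hb⟩ := b
        show a * b = b * a
        induction ha using Subgroup.closure_induction with
        | mem x hx =>
          induction hb using Subgroup.closure_induction with
          | mem y hy => exact hc x hx y hy
          | one => simp
          | mul y z _ _ e1 e2 => rw [← mul_assoc, e1, mul_assoc, e2, mul_assoc]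
          | inv y _ e => exact (Commute.inv_right e).eq
        | one => simp
        | mul x y _ _ e1 e2 => rw [mul_assoc, e2, ← mul_assoc, e1, mul_assoc]
        | inv x _ e => exact (Commute.inv_left e).eq }
  intro ⟨a, ha⟩
  refine ⟨1, Subtype.ext ?_⟩
  show a ^ 2 ^ 1 = 1
  rw [pow_one, pow_two]
  suffices key : ∀ a (ha : a ∈ Subgroup.closure S), (⟨a, ha⟩ : Subgroup.closure S) ^ 2 = 1 by
    simpa [pow_two] using congrArg Subtype.val (key a ha)
  intro a ha
  induction ha using Subgroup.closure_induction with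
  | mem x hx => exact Subtype.ext (by simpa [pow_two] using h2 x hx)
  | one => exact Subtype.ext (by simp)
  | mul x y hx hy e1 e2 =>
    show ((⟨x, hx⟩ : Subgroup.closure S) * ⟨y, hy⟩) ^ 2 = 1
    rw [mul_pow, e1, e2, one_mul]
  | inv x hx e =>
    show ((⟨x, hx⟩ : Subgroup.closure S)⁻¹) ^ 2 = 1
    rw [inv_pow, e, inv_one]

theorem conj_comm {G : Type*} [Group G] (c : G) {a b : G} (h : a * b = b * a) :
    c * a * c⁻¹ * (c * b * c⁻¹) = c * b * c⁻¹ * (c * a * c⁻¹) := by
  calc c * a * c⁻¹ * (c * b * c⁻¹) = c * (a * b) * c⁻¹ := by group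
    _ = _ := by rw [h]; group

theorem conj_invol {G : Type*} [Group G] (c : G) {a : G} (h : a * a = 1) :
    c * a * c⁻¹ * (c * a * c⁻¹) = 1 := by
  calc c * a * c⁻¹ * (c * a * c⁻¹) = c * (a * a) * c⁻¹ := by group
    _ = 1 := by rw [h, mul_one, mul_inv_cancel]

end

end Cfsg.Agent.HNRecog.Classes
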