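import Cfsg.Agent.Lib.HNRecog.Classes.OneDefs

/-! Kernel checks. -/

set_option autoImplicit false
set_option maxRecDepth 100000
set_option Elab.async false

namespace Cfsg.Agent.HNRecog.Classes

open Cfsg.Agent.HN

theorem rows_ok0 : allLo (okRow 0) 11 = true := by decide +kernel

theorem rows_ok1 : allLo (okRow 1) 11 = true := by decide +kernel

end Cfsg.Agent.HNRecog.Classes
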