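import Cfsg.Agent.Lib.HNRecog.Classes.OneData
import Cfsg.Agent.Lib.HNRecog.Classes.OneOmega

/-! Checks for the Sylow 2-subgroup and its involutions. -/

set_option autoImplicit false
set_option maxRecDepth 100000

namespace Cfsg.Agent.HNRecog.Classes

open Cfsg.Agent.HN

noncomputable section

/-- Representative `c`. -/
def repC (c : ℕ) : List ℕ := repT.getD c []

/-- Generator `g`. -/
def genW (g : ℕ) : List ℕ := bif Nat.blt g 4 then wd (Dat.gens.getD g 0) else repC (Nat.sub g 3)

/-- A closure row. -/
def okRow (c g : ℕ) : Bool :=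
  let r := (rowT.getD c []).getD g (8, 0, [])
  Nat.blt r.1 8 && Nat.blt r.2.1 2048 && okSame (repC c ++ genW g) (wd r.2.1 ++ repC r.1) r.2.2

/-- A representative commutes with the second involution. -/
def okComm (c : ℕ) : Bool := okSame (wd iAT ++ repC c) (repC c ++ wd iAT) (commT.getD c [])

/-- The class of a table representative. -/
def okRep5 (r : ℕ) : Bool :=
  let e := repW.getD r (false, [], [])
  Nat.blt (Dat.reps.getD r 0) 2048 &&
    (Nat.beq (Dat.reps.getD r 0) iT || Nat.beq (Dat.reps.getD r 0) iAT ||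
      okSame (e.2.1 ++ wd (Dat.reps.getD r 0)) ((bif e.1 then wd iAT else [0, 0]) ++ e.2.1) e.2.2)

/-- The node of coset `j`. -/
def stK (j : ℕ) : ℕ := (stT.getD j (9, 0, [], [], 0)).1

/-- The element of coset `j`. -/
def stU (j : ℕ) : List ℕ := unp (stT.getD j (9, 0, [], [], 0)).2.1

/-- The word of coset `j`. -/
def stW (j : ℕ) : List ℕ := (stT.getD j (9, 0, [], [], 0)).2.2.1

/-- A coset is reached by its word. -/
def okSt (j : ℕ) : Bool :=
  okMove (stW j) (stT.getD j (9, 0, [], [], 0)).2.2.2.1 (stT.getD j (9, 0, [], [], 0)).2.2.2.2 0 [] (stK j) (stU j)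

/-- The image of coset `j` under generator `g`. -/
def imgG (g j : ℕ) : ℕ := Nat.land (Nat.shiftRight (pkT.getD g 0) (Nat.mul 8 j)) 255

/-- A generator moves a coset as tabled. -/
def okMv (g j : ℕ) : Bool :=
  let e := (mvT.getD g []).getD j ([], 0)
  Nat.blt (imgG g j) 144 && okMove (genW g) e.1 e.2 (stK j) (stU j) (stK (imgG g j)) (stU (imgG g j))

/-- The signature of the nodes. -/
def sigN (l : List (List Hint × ℕ)) : ℕ := List.rec 0 (fun e _ r => e.2 + 10 * r) l

/-- The separation data of coset `j`. -/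
def okSig (j : ℕ) : Bool :=
  Nat.beq (shT.getD j []).length wsT.length &&
  allLo (fun m => okNode (wsT.getD m []) ((shT.getD j []).getD m ([], 9)).1 (stK j) (stU j)
    ((shT.getD j []).getD m ([], 9)).2) wsT.length

/-- The separation data of representative `c`. -/
def okOSig (c : ℕ) : Bool :=
  Nat.beq (ohT.getD c []).length owT.length &&
  allLo (fun m => okNode (repC c ++ owT.getD m []) ((ohT.getD c []).getD m ([], 9)).1 0 []
    ((ohT.getD c []).getD m ([], 9)).2) owT.length

/-- Different signatures. -/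
def okDistinct : Bool :=
  allLo (fun j => allLo (fun i => !Nat.beq (sigN (shT.getD i [])) (sigN (shT.getD j []))) j) 144 &&
  allLo (fun j => allLo (fun i => !Nat.beq (sigN (ohT.getD i [])) (sigN (ohT.getD j []))) j) 8

/-- The parent of an entry. -/
def parI' (i : ℕ) : ℕ := fld (Dat.parentT.get i) 0

/-- Its generator. -/
def parG (i : ℕ) : ℕ := fld (Dat.parentT.get i) 1

/-- The image of a coset under entry `i`. -/
def imgS (f : ℕ) : ℕ → ℕ → ℕ :=
  Nat.rec (fun _ j => j)
    (fun _ r i j => Bool.rec (imgG (parG i) (r (parI' i) j)) j (Nat.beq i 0)) f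

/-- The recursion reaches the identity within `f` steps. -/
def depOK (f : ℕ) : ℕ → Bool :=
  Nat.rec (fun i => Nat.beq i 0) (fun _ r i => Nat.beq i 0 || r (parI' i)) f

/-- The witness coset of an element. -/
def witC (c i : ℕ) : ℕ := Nat.land (Nat.shiftRight (witT1.getD c 0) (Nat.mul 8 i)) 255

/-- An element is no involution or fixes its witness. -/
def okInv (c i : ℕ) : Bool :=
  let j := witC c i
  let a := imgG (Nat.add c 3) (imgS 9 i j)
  Nat.blt j 144 && depOK 9 i && (Nat.beq a j || !Nat.beq (imgG (Nat.add c 3) (imgS 9 i a)) j)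

end

end Cfsg.Agent.HNRecog.Classes
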