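import Cfsg.Agent.Lib.HNRecog.Classes.TableMul

/-!
Conditions on entries of the table for the second and third facts on classes of HN, and their scans.
-/

set_option autoImplicit false
set_option maxRecDepth 100000

namespace Cfsg.Agent.HNRecog

open Cfsg.Agent.HN

noncomputable section

/-- The classes of the table meeting that of `t`. -/
def TClass (i : ℕ) : Bool := Nat.blt (clsI i) 2 || Nat.beq (clsI i) 3

/-- An involution of the class of `t`. -/
def TI (i : ℕ) : Bool := !Nat.beq i 0 && (Nat.beq (sqI i) 0 && TClass i)

/-- The forty conjugates of the second member of the four-group. -/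
def orb48 : List ℕ := [48, 57, 60, 207, 209, 247, 266, 269, 292, 298, 303, 315, 326, 410, 437, 481, 515, 546,
  1302, 1307, 1383, 1387, 1410, 1423, 1471, 1473, 1612, 1643, 1661, 1667, 1706, 1727, 1745, 1783, 1785, 1794,
  1824, 1836, 1860, 1862]

/-- Conditions on the third involution `l` over the pair `i, j`. -/
def okThird (i j l : ℕ) : Bool :=
  !Nat.beq l 0 && !Nat.beq l i && !Nat.beq l j && Nat.beq (sqI l) 0 && !TI l && TI (mulI l iT) &&
    !Nat.beq l (mulI i j) && !TI (mulI l i) && !TI (mulI l j) && !TI (mulI l (mulI i j)) &&
    Nat.beq (mulI l i) (mulI i l) && Nat.beq (mulI l j) (mulI j l)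

/-- Conditions on a commuting partner `m` of the second profile. -/
def okPartner (i m : ℕ) : Bool :=
  TI m && TI (mulI m (mulI i iAT)) && !TI (mulI m i) && !TI (mulI m iAT) && Nat.beq (mulI m i) (mulI i m)

/-- Involutions of the table commuting with the pair and the partner violate the third conditions. -/
def okCommuting (l : List ℕ) (i m : ℕ) : Bool :=
  !okPartner i m || l.all fun q => !(okThird i iAT q && Nat.beq (mulI q m) (mulI m q))

/-- Conditions on a pair `i, j` inside the centraliser of a point of the second profile. -/
def okSecPair (i j : ℕ) : Bool :=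
  Nat.beq (sqI i) 0 && !TI i && !TI (mulI i iT) && !TI (mulI i j) && !TI (mulI (mulI i j) iT) &&
    Nat.beq (mulI i j) (mulI j i)

end

end Cfsg.Agent.HNRecog
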