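import Cfsg.Agent.Lib.HNRecog.Classes.TableCases

/-! The involutions of the table, listed. -/

set_option autoImplicit false
set_option maxRecDepth 100000
set_option maxHeartbeats 0
set_option Elab.async false

namespace Cfsg.Agent.HNRecog

open Cfsg.Agent.HN

noncomputable section

/-- The involutions of the table. -/
def invList : List ℕ := [1, 3, 6, 9, 25, 30, 48, 52, 57, 60, 65, 120, 143, 145, 204, 207, 209, 211, 220, 239, 247, 265, 266, 267, 269,
  291, 292, 293, 296, 297, 298, 303, 311, 313, 315, 318, 323, 326, 330, 338, 344, 346, 348, 355, 358, 360, 364,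
  370, 378, 386, 400, 407, 410, 412, 416, 419, 422, 425, 426, 431, 437, 440, 443, 460, 463, 475, 478, 481, 482,
  485, 503, 515, 518, 519, 523, 528, 536, 542, 546, 548, 550, 552, 554, 556, 562, 563, 571, 576, 578, 589, 590,
  594, 600, 607, 624, 628, 637, 640, 646, 658, 660, 665, 668, 703, 708, 711, 727, 735, 762, 824, 825, 843, 845,
  860, 861, 878, 883, 884, 886, 891, 900, 902, 906, 929, 934, 935, 941, 949, 953, 958, 967, 970, 971, 974, 989,
  996, 1005, 1010, 1018, 1034, 1036, 1044, 1064, 1074, 1077, 1086, 1089, 1119, 1140, 1146, 1148, 1154, 1189,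
  1190, 1210, 1218, 1219, 1225, 1240, 1246, 1249, 1263, 1288, 1294, 1298, 1300, 1301, 1302, 1307, 1310, 1314,
  1320, 1322, 1324, 1332, 1340, 1341, 1346, 1351, 1358, 1360, 1362, 1365, 1369, 1371, 1374, 1377, 1383, 1386,
  1387, 1390, 1405, 1406, 1410, 1412, 1415, 1420, 1422, 1423, 1426, 1434, 1443, 1444, 1447, 1455, 1457, 1460,
  1467, 1471, 1473, 1487, 1491, 1498, 1500, 1502, 1516, 1518, 1519, 1529, 1543, 1564, 1566, 1573, 1578, 1579,
  1584, 1589, 1595, 1597, 1604, 1606, 1610, 1612, 1618, 1639, 1641, 1643, 1648, 1649, 1652, 1661, 1667, 1668,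
  1671, 1676, 1681, 1683, 1686, 1689, 1706, 1708, 1720, 1727, 1728, 1736, 1745, 1748, 1754, 1773, 1777, 1783,
  1785, 1789, 1794, 1802, 1803, 1805, 1813, 1814, 1818, 1824, 1826, 1836, 1838, 1841, 1842, 1844, 1847, 1851,
  1852, 1858, 1860, 1861, 1862, 1874, 1877, 1905, 1916, 1917, 1919, 1967, 1968, 1975, 1998, 2004, 2010, 2017,
  2025, 2030, 2032, 2033, 2042, 2044]

theorem invList_all : allLo (fun i => Nat.beq i 0 || !Nat.beq (sqI i) 0 || memL invList i) 2048 = true := by
  decide +kernel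

end

end Cfsg.Agent.HNRecog
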