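import Cfsg.Agent.Lib.HNRecog.Local.Sylow
import Cfsg.Agent.Lib.HN.Theory

/-!
Products inside the table of the Sylow 2-subgroup, and moving 2-subgroups of the centraliser of `a t` into it.
-/

set_option autoImplicit false
set_option maxRecDepth 100000
set_option linter.style.haveILetI false

namespace Cfsg.Agent.HNRecog

open Cfsg.Agent.HN Cfsg.Agent.HNMult

noncomputable section

/-- Entry of a product, along the path of the second factor. -/
def mulN (n : ℕ) : ℕ → ℕ → ℕ :=
  Nat.rec (fun i _ => i)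
    (fun _ r i j => Bool.rec
      (fld (Dat.tblT.get (r i (fld (Dat.parentT.get j) 0))) (fld (Dat.parentT.get j) 1)) i (Nat.beq j 0)) n

/-- The length of the path of an entry is within bounds. -/
def depthN (n : ℕ) : ℕ → Bool :=
  Nat.rec (fun j => Nat.beq j 0)
    (fun _ r j => Bool.rec (r (fld (Dat.parentT.get j) 0)) true (Nat.beq j 0)) n

/-- Entry of a product. -/
def mulI (i j : ℕ) : ℕ := mulN 16 i j

theorem depth_ok : allLo (depthN 16) 2048 = true := by decide +kernel

theorem parent_spec {j : ℕ} (hj : j < 2048) (h0 : j ≠ 0) :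
    fld (Dat.parentT.get j) 0 < 2048 ∧ fld (Dat.parentT.get j) 1 < Dat.gens.length ∧
      eS (fld (Dat.parentT.get j) 0) * eS (Dat.gens.getD (fld (Dat.parentT.get j) 1) 0) = eS j := by
  have h := allLo_spec close_ok hj
  simp only [okClose, Bool.and_eq_true, Bool.or_eq_true, Nat.beq_eq, Nat.blt_eq] at h
  obtain ⟨⟨hp, hg⟩, he⟩ := h.2.resolve_left h0
  refine ⟨hp.trans hj, hg, ?_⟩
  rw [(close_spec (hp.trans hj) hg).2, he]

theorem mulN_spec : ∀ (n i j : ℕ), i < 2048 → j < 2048 → depthN n j = true →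
    mulN n i j < 2048 ∧ eS (mulN n i j) = eS i * eS j := by
  intro n
  induction n with
  | zero =>
    intro i j hi _ hd
    obtain rfl : j = 0 := Nat.eq_of_beq_eq_true hd
    exact ⟨hi, by rw [eS_zero, mul_one]; rfl⟩
  | succ n ih =>
    intro i j hi hj hd
    change (Bool.rec (depthN n (fld (Dat.parentT.get j) 0)) true (Nat.beq j 0) : Bool) = true at hd
    show (Bool.rec (fld (Dat.tblT.get (mulN n i (fld (Dat.parentT.get j) 0))) (fld (Dat.parentT.get j) 1)) i
      (Nat.beq j 0) : ℕ) < 2048 ∧ eS (Bool.rec (fld (Dat.tblT.get (mulN n i (fld (Dat.parentT.get j) 0)))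
      (fld (Dat.parentT.get j) 1)) i (Nat.beq j 0) : ℕ) = _
    cases hb : Nat.beq j 0 with
    | true =>
      obtain rfl : j = 0 := Nat.eq_of_beq_eq_true hb
      exact ⟨hi, by rw [eS_zero, mul_one]⟩
    | false =>
      rw [hb] at hd
      obtain ⟨hp, hg, he⟩ := parent_spec hj (fun e => by simp [e] at hb)
      obtain ⟨h1, h2⟩ := ih i _ hi hp hd
      obtain ⟨h3, h4⟩ := close_spec h1 hg
      exact ⟨h3, by rw [← h4, h2, mul_assoc, he]⟩

theorem mulI_spec {i j : ℕ} (hi : i < 2048) (hj : j < 2048) :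
    mulI i j < 2048 ∧ eS (mulI i j) = eS i * eS j :=
  mulN_spec 16 i j hi hj (allLo_spec depth_ok hj)

theorem mulI_comm_iff {i j : ℕ} (hi : i < 2048) (hj : j < 2048) :
    mulI i j = mulI j i ↔ eS i * eS j = eS j * eS i := by
  obtain ⟨a, b⟩ := mulI_spec hi hj
  obtain ⟨c, d⟩ := mulI_spec hj hi
  exact ⟨fun e => by rw [← b, ← d, e], fun e => eS_injective a c (by rw [b, d, e])⟩

theorem AT_central : allLo (fun i => Nat.beq (mulI i iAT) (mulI iAT i)) 2048 = true := by decide +kernel

theorem Syl_le_cent : Syl ≤ Subgroup.centralizer ({eS iAT} : Set H0) := by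
  intro a ha
  obtain ⟨i, hi, rfl⟩ := mem_Syl.1 ha
  exact Subgroup.mem_centralizer_singleton_iff.2
    ((mulI_comm_iff hi special_spec.2.2.1).1 (Nat.eq_of_beq_eq_true (allLo_spec AT_central hi)))

/-- A 2-subgroup of the centraliser of `a t` is moved into the table by that centraliser. -/
theorem conj_into_AT {Q : Subgroup H0} (hQ : IsPGroup 2 Q)
    (hle : Q ≤ Subgroup.centralizer ({eS iAT} : Set H0)) :
    ∃ c ∈ Subgroup.centralizer ({eS iAT} : Set H0), ∀ q ∈ Q, ∃ i < 2048, eS i = c * q * c⁻¹ := by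
  haveI := finite_H0
  haveI : Fact (Nat.Prime 2) := ⟨Nat.prime_two⟩
  set C := Subgroup.centralizer ({eS iAT} : Set H0) with hC
  have hd : Nat.card C ∣ 177408000 := card_H0 ▸ Subgroup.card_subgroup_dvd_card C
  have hcard : Nat.card (Syl.subgroupOf C) = 2048 := by
    rw [Nat.card_congr (Subgroup.subgroupOfEquivOfLe Syl_le_cent).toEquiv, card_Syl]
  have hdvd : 2 ^ 11 ∣ Nat.card C := by
    rw [show (2 : ℕ) ^ 11 = 2048 by norm_num, ← hcard]
    exact Subgroup.card_subgroup_dvd_card _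
  have hfac : (Nat.card C).factorization 2 = 11 := by
    refine le_antisymm ?_ ((Nat.prime_two.pow_dvd_iff_le_factorization Nat.card_pos.ne').1 hdvd)
    have h := (Nat.factorization_le_iff_dvd Nat.card_pos.ne' (by norm_num)).2 hd 2
    rwa [show (177408000 : ℕ) = 2 ^ 11 * 86625 by norm_num,
      Nat.factorization_mul (pow_ne_zero _ two_ne_zero) (by norm_num), Finsupp.add_apply,
      Nat.prime_two.factorization_pow, Finsupp.single_eq_same,
      Nat.factorization_eq_zero_of_not_dvd (by norm_num : ¬ 2 ∣ 86625), add_zero] at h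
  let S0 : Sylow 2 C := Sylow.ofCard (Syl.subgroupOf C) (by rw [hfac, hcard]; norm_num)
  obtain ⟨P, hP⟩ := IsPGroup.exists_le_sylow (hQ.comap_of_injective C.subtype (Subgroup.subtype_injective C))
  obtain ⟨g, hg⟩ := MulAction.exists_smul_eq C P S0
  refine ⟨g, g.2, fun q hq => ?_⟩
  have h1 : (⟨q, hle hq⟩ : C) ∈ (P : Subgroup C) := hP hq
  have h2 : g * ⟨q, hle hq⟩ * g⁻¹ ∈ (S0 : Subgroup C) := by
    rw [← hg]
    exact Subgroup.smul_mem_pointwise_smul _ (MulAut.conj g) _ h1
  exact mem_Syl.1 h2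

end

end Cfsg.Agent.HNRecog
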