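import Cfsg.Agent.Lib.HNRecog.Classes.ThreeLocal

/-!
The third fact on classes of HN: no involution beside the four-group has the second profile.
-/

set_option autoImplicit false
set_option maxRecDepth 100000
set_option linter.style.haveILetI false
set_option maxHeartbeats 1000000

namespace Cfsg.Agent.HNRecog.Classes

open Cfsg.Agent.HN Cfsg.Agent.HNMult

noncomputable section

theorem four_entries : (TI iAT = false ∧ TI (mulI iAT iT) = true ∧ TI 48 = false ∧ TI (mulI 48 iT) = false) ∧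
    TI (mulI 48 iAT) = false ∧ TI (mulI (mulI 48 iAT) iT) = false ∧ mulI 48 iAT = mulI iAT 48 ∧
    sqI 48 = 0 ∧ sqI iAT = 0 := by decide +kernel

theorem seven_class : IsConj T0 (psiHN (el Dat.nodeF7) * sNode Dat.nodeW7 * (psiHN (el Dat.nodeF7))⁻¹ *
    psiHN (eS iAT)) := by
  have hn : okAtoms Dat.nodeW7 = true := allLo_spec atoms_ok (i := 7) (by norm_num)
  have hq : okAtoms Dat.qSeven = true := by decide +kernel
  have hf : letOK 5 Dat.nodeF7 = true := by decide +kernel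
  have hin : okAtoms (Dat.nodeF7 ++ sWord Dat.nodeW7 ++ winv iv5 Dat.nodeF7 ++ wd iAT) = true := by decide +kernel
  have e := word_val (W := sevenWord) (by decide +kernel) word_seven
  rw [sevenWord, ev_append, ev_append, ev_append, ev_winvA _ hq, ev_winvA _ hin, ev_append, ev_append, ev_append,
    ev_T, ev_sWord hn, ev_letters hf, ev_letters (letOK_winv hf), el_winv, map_inv,
    ev_wd special_spec.2.2.1, mul_inv_eq_one] at e
  rw [← e]
  exact isConj_iff.2 ⟨(ev Dat.qSeven)⁻¹, by rw [inv_inv]⟩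

/-- An element with a trivial power of exponent prime to large powers of two has order dividing two. -/
theorem sq_one_of_pow {G : Type*} [Group G] {a : G} {e m : ℕ} (he : Nat.gcd e (2 ^ 64) ∣ 2) (ha : a ^ e = 1)
    (hm : a ^ 2 ^ m = 1) : a * a = 1 := by
  obtain ⟨j, -, hj⟩ := (Nat.dvd_prime_pow Nat.prime_two).1 (orderOf_dvd_of_pow_eq_one hm)
  have hd := orderOf_dvd_of_pow_eq_one ha
  rw [hj] at hd
  have hj1 : j ≤ 1 := by
    by_contra hc
    have h4 : 4 ∣ e := (pow_dvd_pow 2 (show 2 ≤ j by omega)).trans hd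
    have : 4 ∣ 2 := (Nat.dvd_gcd h4 (show 4 ∣ 2 ^ 64 by norm_num)).trans he
    omega
  have := orderOf_dvd_iff_pow_eq_one.1 (hj ▸ pow_dvd_pow 2 hj1 : orderOf a ∣ 2 ^ 1)
  rwa [pow_one, pow_two] at this

/-- Two commuting elements generate with a 2-group a 2-group: moving a conjugate of `t` beside `t`. -/
theorem move_beside {C : Subgroup Cfsg.Spor.HN} (hT : T0 ∈ C) {s : Cfsg.Spor.HN} (hs : s ∈ C) (hs2 : s * s = 1) :
    ∃ c ∈ C, ∃ m, (T0 * (c * s * c⁻¹)) ^ 2 ^ m = 1 := by
  haveI : Finite Cfsg.Spor.HN := finite_HN HN.Dat.xok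
  haveI : Fact (Nat.Prime 2) := ⟨Nat.prime_two⟩
  have isP : ∀ a : C, a * a = 1 → IsPGroup 2 (Subgroup.zpowers a) := fun a ha ⟨x, hx⟩ => by
    obtain ⟨n, rfl⟩ := Subgroup.mem_zpowers_iff.1 hx
    refine ⟨1, Subtype.ext ?_⟩
    show (a ^ n) ^ 2 ^ 1 = 1
    rw [pow_one, ← zpow_natCast, ← zpow_mul, mul_comm, zpow_mul, zpow_natCast, pow_two, ha, one_zpow]
  obtain ⟨R, hR⟩ := IsPGroup.exists_le_sylow (isP ⟨T0, hT⟩ (Subtype.ext T0_sq))
  obtain ⟨R', hR'⟩ := IsPGroup.exists_le_sylow (isP ⟨s, hs⟩ (Subtype.ext hs2))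
  obtain ⟨g, hg⟩ := MulAction.exists_smul_eq C R' R
  have h1 : g * ⟨s, hs⟩ * g⁻¹ ∈ (R : Subgroup C) := by
    rw [← hg]
    exact Subgroup.smul_mem_pointwise_smul _ (MulAut.conj g) _ (hR' (Subgroup.mem_zpowers _))
  have h2 : (⟨T0, hT⟩ : C) ∈ (R : Subgroup C) := hR (Subgroup.mem_zpowers _)
  obtain ⟨m, hm⟩ := R.isPGroup' ⟨_, mul_mem h2 h1⟩
  exact ⟨g, g.2, m, congrArg (fun x : (R : Subgroup C) => ((x : C) : Cfsg.Spor.HN)) hm⟩

/-- The third fact, from the classes of the table. -/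
theorem no_second_profile (hlab : Labelled) {z : Cfsg.Spor.HN} (hz : orderOf z = 2)
    (n1 : z ≠ V1) (n2 : z ≠ W0) (n3 : z ≠ V1 * W0)
    (zT : z * T0 = T0 * z) (zV : z * V1 = V1 * z) (zW : z * W0 = W0 * z)
    (tz : IsConj T0 (T0 * z)) (c0 : ¬ IsConj T0 z) (c1 : ¬ IsConj T0 (z * V1)) (c2 : ¬ IsConj T0 (z * W0))
    (c3 : ¬ IsConj T0 (z * (V1 * W0))) :
    ¬ ∃ s, IsConj T0 s ∧ s * V1 = V1 * s ∧ s * W0 = W0 * s ∧ s * z = z * s ∧ IsConj T0 (s * (V1 * W0)) ∧
      ¬ IsConj T0 (s * V1) ∧ ¬ IsConj T0 (s * W0) := by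
  rintro ⟨s0, hs0, s0V, s0W, s0z, p120, p10, p20⟩
  obtain ⟨ζ, rfl⟩ := MonoidHom.mem_range.1 (mem_range_iff.1 zT)
  obtain ⟨⟨eAT, eATT, e48, e48T⟩, e48A, e48AT, ecomm, sq48, sqAT⟩ := four_entries
  have h48 : (48 : ℕ) < 2048 := by norm_num
  have hAT := special_spec.2.2.1
  have iT_lt := special_spec.1
  have inv48 : eS 48 * eS 48 = 1 := (sq_one_iff h48).2 sq48
  have invAT : eS iAT * eS iAT = 1 := (sq_one_iff hAT).2 sqAT
  have cm : eS 48 * eS iAT = eS iAT * eS 48 := (mulI_comm_iff h48 hAT).1 ecomm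
  have hz2 : ζ * ζ = 1 := psi_eq_iff.1 (by
    rw [map_mul, map_one, ← pow_two, ← hz, pow_orderOf_eq_one])
  have hthird : Third ζ (eS 48) (eS iAT) :=
    { sq := hz2
      ne := fun e => by rw [e, map_one, orderOf_one] at hz; exact absurd hz (by norm_num)
      ne1 := fun e => n1 (by rw [e]; rfl)
      ne2 := fun e => n2 (by rw [e]; rfl)
      ne3 := fun e => n3 (by rw [e, map_mul]; rfl)
      comm1 := psi_eq_iff.1 (by rw [map_mul, map_mul]; exact zV)
      comm2 := psi_eq_iff.1 (by rw [map_mul, map_mul]; exact zW)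
      tcls := by rw [← T0_comm]; exact tz
      cls := c0
      cls1 := c1
      cls2 := c2
      cls3 := c3 }
  -- moving beside `t`
  set C : Subgroup Cfsg.Spor.HN := Subgroup.centralizer {V1, W0, psiHN ζ} with hC
  have memC : ∀ {a}, a * V1 = V1 * a → a * W0 = W0 * a → a * psiHN ζ = psiHN ζ * a → a ∈ C := by
    intro a h1 h2 h3
    rw [hC, Subgroup.mem_centralizer_iff]
    rintro y (rfl | rfl | rfl)
    exacts [h1.symm, h2.symm, h3.symm]
  obtain ⟨g0, hg0⟩ := isConj_iff.1 hs0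
  have s02 : s0 * s0 = 1 := by rw [← hg0]; exact conj_invol g0 T0_sq
  obtain ⟨c, hc, m, hm⟩ := move_beside (C := C) (memC (T0_comm _) (T0_comm _) (T0_comm _)) (memC s0V s0W s0z) s02
  have hc' := Subgroup.mem_centralizer_iff.1 hc
  have fixV : c * V1 * c⁻¹ = V1 := by rw [← hc' V1 (Or.inl rfl), mul_inv_cancel_right]
  have fixW : c * W0 * c⁻¹ = W0 := by rw [← hc' W0 (Or.inr (Or.inl rfl)), mul_inv_cancel_right]
  have fixz : c * psiHN ζ * c⁻¹ = psiHN ζ := by
    rw [← hc' _ (Or.inr (Or.inr rfl)), mul_inv_cancel_right]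
  have fix3 : c * (V1 * W0) * c⁻¹ = V1 * W0 := by
    calc c * (V1 * W0) * c⁻¹ = (c * V1 * c⁻¹) * (c * W0 * c⁻¹) := by group
      _ = _ := by rw [fixV, fixW]
  set s := c * s0 * c⁻¹ with hsdef
  have hs : IsConj T0 s := (isConj_conj_iff c s0).2 hs0
  have s2 : s * s = 1 := conj_invol c s02
  have move : ∀ {x}, c * x * c⁻¹ = x → (IsConj T0 (s * x) ↔ IsConj T0 (s0 * x)) := fun {x} hx => by
    rw [← isConj_conj_iff c (s0 * x)]
    refine iff_of_eq (congrArg _ ?_)
    calc s * x = s * (c * x * c⁻¹) := by rw [hx]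
      _ = _ := by rw [hsdef]; group
  have sV : s * V1 = V1 * s := by have := conj_comm c s0V; rwa [fixV] at this
  have sW : s * W0 = W0 * s := by have := conj_comm c s0W; rwa [fixW] at this
  have sz : s * psiHN ζ = psiHN ζ * s := by have := conj_comm c s0z; rwa [fixz] at this
  have p12 := (move fix3).2 p120
  have p1 := mt (move fixV).1 p10
  have p2 := mt (move fixW).1 p20
  obtain ⟨k, hk, b, hsb⟩ := exists_node hs
  set B := psiHN b with hB
  by_cases hk47 : k = 4 ∨ k = 7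
  · -- moved to a node
    have hn : sNode (nodeW k) = B * s * B⁻¹ := by rw [hsb]; group
    have hv' := conj_comm b cm
    have key : ∀ {skip q : ℕ} {u f L Cl : List ℕ} {hs : List Hint}, okRun (nodeW k) hs k u = true →
        okNodeL k u f L Cl = true →
        Nat.beq (schainSize (HN.Dat.xd.O.node k).chain) (Nat.mul L.length q) = true → Odd q →
        okScan skip L = true →
        (skip < 2048 → IsConj T0 ((psiHN (el f) * sNode (nodeW k) * (psiHN (el f))⁻¹) * psiHN (eS skip))) →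
        False := by
      intro skip q u f L Cl hs h1 h2 h3 h4 h5 h6
      have pc : ∀ x, psiHN (b * x * b⁻¹) = B * psiHN x * B⁻¹ := fun x => by rw [map_mul, map_mul, map_inv]
      have comm' : ∀ {x}, s * psiHN x = psiHN x * s → psiHN (b * x * b⁻¹) * sNode (nodeW k) =
          sNode (nodeW k) * psiHN (b * x * b⁻¹) := fun {x} hx => by
        rw [pc, hn]; exact conj_comm B hx.symm
      have cj : ∀ x, IsConj T0 (psiHN (b * x * b⁻¹)) ↔ IsConj T0 (psiHN x) := fun x => by
        rw [pc, isConj_conj_iff]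
      have cjT : ∀ x, IsConj T0 (psiHN (b * x * b⁻¹) * T0) ↔ IsConj T0 (psiHN x * T0) := fun x => by
        rw [← isConj_conj_iff B (psiHN x * T0)]
        refine iff_of_eq (congrArg _ ?_)
        rw [pc]
        calc B * psiHN x * B⁻¹ * T0 = B * psiHN x * (B⁻¹ * T0) := by group
          _ = _ := by rw [hB, ← map_inv, ← T0_comm, map_inv]; group
      obtain ⟨h48A, eh⟩ := mulI_spec h48 hAT
      have nl := @not_label
      have labT : ∀ {i}, i < 2048 → (IsConj T0 (psiHN (eS i) * T0) ↔ TI (mulI i iT) = true) := fun {i} hi => by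
        have := label_mul hlab hi iT_lt
        rwa [psi_iT] at this
      refine case_node hlab h1 h2 h3 h4 h5 h6 (hthird.conj b) (conj_invol b inv48) (conj_invol b invAT) hv'
        (comm' sV) (comm' sW) (comm' sz) rfl rfl ?_ ?_ ?_ ?_ ?_ ?_ ?_
      · rw [cj, nl (hlab iAT hAT)]; exact eAT
      · rw [cjT, labT hAT]; exact eATT
      · rw [cj, nl (hlab 48 h48)]; exact e48
      · rw [cjT, nl (labT h48)]; exact e48T
      · rw [← map_mul, show b * eS 48 * b⁻¹ * (b * eS iAT * b⁻¹) = b * (eS 48 * eS iAT) * b⁻¹ by group, cj, ← eh,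
          nl (hlab _ h48A)]
        exact e48A
      · rw [← map_mul, show b * eS 48 * b⁻¹ * (b * eS iAT * b⁻¹) = b * (eS 48 * eS iAT) * b⁻¹ by group, cjT, ← eh,
          nl (labT h48A)]
        exact e48AT
      · rw [pc, hn, show B * s * B⁻¹ * (B * psiHN (eS iAT) * B⁻¹) = B * (s * psiHN (eS iAT)) * B⁻¹ by group,
          isConj_conj_iff]
        exact p2
    rcases hk47 with rfl | rfl
    · have h := node4L_ok
      rw [Bool.and_eq_true] at h
      exact key run4_ok h.1 h.2 (by decide) scan4_ok (fun h => absurd h (by norm_num))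
    · have h := node7L_ok
      rw [Bool.and_eq_true] at h
      exact key run7_ok h.1 h.2 (by decide) scan7_ok (fun _ => seven_class)
  · -- commuting with `t`
    rw [not_or] at hk47
    obtain ⟨e, he, hpow⟩ := node_pow hk hk47.1 hk47.2
    have hconj : T0 * s = B⁻¹ * (T0 * sNode (nodeW k)) * B := by
      rw [hsb]
      calc T0 * (B⁻¹ * sNode (nodeW k) * B) = (T0 * B⁻¹) * sNode (nodeW k) * B := by group
        _ = _ := by rw [hB, ← map_inv, T0_comm, map_inv]; group
    have hTs : T0 * s * (T0 * s) = 1 := sq_one_of_pow he (by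
      rw [hconj, show B⁻¹ * (T0 * sNode (nodeW k)) * B = B⁻¹ * (T0 * sNode (nodeW k)) * (B⁻¹)⁻¹ by rw [inv_inv],
        conj_pow, hpow, mul_one, mul_inv_cancel]) hm
    have hcomm : s * T0 = T0 * s := by
      calc s * T0 = T0 * T0 * s * T0 * (s * s) := by rw [T0_sq, s2, one_mul, mul_one]
        _ = T0 * ((T0 * s * (T0 * s)) * s) := by group
        _ = _ := by rw [hTs, one_mul]
    obtain ⟨σ, hσ⟩ := MonoidHom.mem_range.1 (mem_range_iff.1 hcomm)
    rw [← hσ] at hs sV sW sz p12 p1 p2 s2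
    exact case_commuting hlab hthird (psi_eq_iff.1 (by rw [map_mul, map_one]; exact s2))
      (psi_eq_iff.1 (by rw [map_mul, map_mul]; exact sV)) (psi_eq_iff.1 (by rw [map_mul, map_mul]; exact sW))
      (psi_eq_iff.1 (by rw [map_mul, map_mul]; exact sz)) hs p12 p1 p2

end

end Cfsg.Agent.HNRecog.Classes
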