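import Cfsg.Agent.Lib.HNRecog.Classes.ThreeData
import Cfsg.Agent.Lib.HN.A12
import Cfsg.Agent.Lib.HNRecog.Classes.TableMul

/-!
The words whose values are one, for the second and third facts on classes of HN.
-/

set_option autoImplicit false
set_option maxRecDepth 100000

namespace Cfsg.Agent.HNRecog

open Cfsg.Agent.HN

noncomputable section

/-- The inverse word of atoms. -/
def winvA : List ℕ → List ℕ
  | [] => []
  | a :: w => winvA w ++ (bif Nat.blt a 5 then [iv5 a] else [5, 5, 5, 5])

/-- The atoms of the conjugate of `t` at a node. -/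
def sWord (n : List ℕ) : List ℕ := winvA n ++ [0, 0] ++ n

/-- A power of a word. -/
def powW (w : List ℕ) : ℕ → List ℕ
  | 0 => []
  | n + 1 => w ++ powW w n

/-- The word of an order at a node. -/
def ordW (n : List ℕ) (e : ℕ) : List ℕ := powW ([0, 0] ++ sWord n) e

/-- The word identifying the element at the last node. -/
def sigWord : List ℕ := sWord Dat.nodeW8 ++ winvA Dat.sigW

/-- The first word moving the four-group. -/
def twoWord1 : List ℕ := Dat.gTwo ++ wd iAT ++ winvA Dat.gTwo ++ winvA (wd 48)

/-- The second word moving the four-group. -/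
def twoWord2 : List ℕ := Dat.gTwo ++ wd 9 ++ winvA Dat.gTwo ++ winvA (wd iAT)

/-- The word of the class of a product. -/
def sevenWord : List ℕ :=
  winvA Dat.qSeven ++ [0, 0] ++ Dat.qSeven ++
    winvA (Dat.nodeF7 ++ sWord Dat.nodeW7 ++ winv iv5 Dat.nodeF7 ++ wd iAT)

end

end Cfsg.Agent.HNRecog
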