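import Cfsg.Agent.Lib.HNRecog.Classes.TableInv
import Cfsg.Agent.Lib.HNRecog.Classes.ThreeWords
import Cfsg.Agent.Lib.HN.MiscCheck
import Cfsg.Agent.Lib.HN.LoopData

/-!
Kernel checks for the second and third facts on classes of HN: the nodes, the orbit of forty conjugates, and the scans.
-/

set_option autoImplicit false
set_option maxRecDepth 100000
set_option maxHeartbeats 0
set_option Elab.async false

namespace Cfsg.Agent.HNRecog

open Cfsg.Agent.HN

noncomputable section

/-- The atoms of the nodes. -/
def nodeW (k : ℕ) : List ℕ :=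
  [[], Dat.nodeW1, Dat.nodeW2, Dat.nodeW3, Dat.nodeW4, Dat.nodeW5, Dat.nodeW6, Dat.nodeW7, Dat.nodeW8].getD k []

/-- A run from the first coset lands at the stated coset. -/
def okRun (n : List ℕ) (hs : List Hint) (k : ℕ) (u : List ℕ) : Bool :=
  okAtoms n && Nat.blt k HN.Dat.xd.O.nodes.length && letOK 5 u &&
  match HN.Dat.xd.O.runH n hs 0 [] with
  | some (k', u') => Nat.beq k' k && eqH u' u
  | none => false

/-- The conjugator from the last node. -/
def movU : List ℕ := Dat.nodeU8 ++ Dat.movW

/-- A generator of the centraliser of `a t`. -/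
def centGen (g : ℕ) : List ℕ :=
  winv iv5 movU ++ unp ((topGens (HN.Dat.xd.O.node 8).chain).getD g 0) ++ movU

/-- A generator permutes the forty conjugates as stated. -/
def okOrbit (g : ℕ) : Bool :=
  let w := centGen g
  letOK 5 w && allLo (fun p =>
    let q := (Dat.orbPos.getD g []).getD p 0
    Nat.blt q orb48.length && eqH (winv iv5 w ++ wd (orb48.getD p 0) ++ w) (wd (orb48.getD q 0))) orb48.length

/-- A Sylow subgroup of a node, moved into the table. -/
def okNodeL (k : ℕ) (u f L C : List ℕ) : Bool :=
  letOK 5 u && letOK 5 f && memL L 0 && Nat.beq C.length L.length &&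
    allLo (fun p =>
      let i := L.getD p 0
      Nat.blt i 2048 && allLo (fun p' => !Nat.beq (L.getD p' 0) i) p &&
        allLo (fun p' => memL L (mulI i (L.getD p' 0))) L.length &&
        codeOK (HN.Dat.xd.O.node k).chain (C.getD p 0) &&
        eqH (u ++ winv iv5 f ++ wd i ++ f ++ winv iv5 u) (prodW (HN.Dat.xd.O.node k).chain (C.getD p 0))) L.length

/-- A candidate second member in the table. -/
def okSecond (skip j : ℕ) : Bool :=
  !Nat.beq j skip && !Nat.beq j 0 && Nat.beq (sqI j) 0 && !parI j && !TI j && TI (mulI j iT)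

/-- An entry moved along the witness of another is among the forty conjugates. -/
def inOrbit (i j : ℕ) : Bool :=
  memL (orb48.map kd) (keyW (conjI j ++ wd i ++ winv iv5 (conjI j)))

/-- The scan of a Sylow subgroup of a node. -/
def okScan (skip : ℕ) (L : List ℕ) : Bool :=
  L.all fun j => !okSecond skip j || (Nat.beq (clsI j) 2 && letOK 5 (conjI j) &&
    L.all fun i => !(okSecPair i j && inOrbit i j) || L.all fun l => !okThird i j l)

theorem atoms_ok : allLo (fun k => okAtoms (nodeW k)) 9 = true := by decide +kernel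

theorem nodeW_ok : allLo (fun k => eqW (HN.Dat.xd.D.nodeAtoms 9 k) (nodeW k)) 9 = true := by decide +kernel

theorem run4_ok : okRun Dat.nodeW4 Dat.nodeH4 4 Dat.nodeU4 = true := by decide +kernel

theorem run7_ok : okRun Dat.nodeW7 Dat.nodeH7 7 Dat.nodeU7 = true := by decide +kernel

theorem run8_ok : okRun Dat.nodeW8 Dat.nodeH8 8 Dat.nodeU8 = true := by decide +kernel

theorem sigma_ok : (letOK 5 Dat.sigW && letOK 5 Dat.movW &&
    eqH (Dat.movW ++ wd iAT ++ winv iv5 Dat.movW) (Dat.sigW ++ [0, 0])) = true := by decide +kernel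

theorem orbit_ok : allLo okOrbit (topGens (HN.Dat.xd.O.node 8).chain).length = true := by decide +kernel

theorem orb_lt : (orb48.all fun i => Nat.blt i 2048) = true ∧ memL orb48 48 = true := by decide +kernel

theorem scanA_ok : (orb48.all fun i => invList.all fun m => okCommuting invList i m) = true := by decide +kernel

theorem node4L_ok : (okNodeL 4 Dat.nodeU4 Dat.nodeF4 Dat.nodeL4 Dat.nodeC4 &&
    Nat.beq (schainSize (HN.Dat.xd.O.node 4).chain) (Nat.mul Dat.nodeL4.length 45)) = true := by decide +kernel

theorem node7L_ok : (okNodeL 7 Dat.nodeU7 Dat.nodeF7 Dat.nodeL7 Dat.nodeC7 &&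
    Nat.beq (schainSize (HN.Dat.xd.O.node 7).chain) (Nat.mul Dat.nodeL7.length 5)) = true := by decide +kernel

theorem scan4_ok : okScan 4096 Dat.nodeL4 = true := by decide +kernel

theorem scan7_ok : okScan iAT Dat.nodeL7 = true := by decide +kernel

theorem two_ok : allLo (fun i =>
    Nat.beq i 0 || Nat.beq i iAT || !Nat.beq (sqI i) 0 || TI i || TI (mulI i iAT) || !TI (mulI i iT) ||
      memL Dat.twoE i) 2048 = true := by decide +kernel

theorem twoW_ok : allLo (fun p =>
    let i := Dat.twoE.getD p 0
    let w := unp (Dat.twoW.getD p 0)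
    Nat.blt i 2048 && letOK 5 w && eqH (w ++ wd iAT) (wd iAT ++ w) && eqH (w ++ wd 9) (wd i ++ w))
      Dat.twoE.length = true := by decide +kernel

end

end Cfsg.Agent.HNRecog
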