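import Cfsg.Agent.Lib.HNRecog.Classes.Labels
import Cfsg.Agent.Lib.HNRecog.Local.Outer

/-!
The third fact on classes of HN inside the table: a conjugate of `t` commuting with `t`, and one at node 4 or 7.
-/

set_option autoImplicit false
set_option maxRecDepth 100000
set_option linter.style.haveILetI false
set_option maxHeartbeats 1000000

namespace Cfsg.Agent.HNRecog.Classes

open Cfsg.Agent.HN Cfsg.Agent.HNMult

noncomputable section

/-- The data on the third involution. -/
structure Third (ζ v w : H0) : Prop where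
  sq : ζ * ζ = 1
  ne : ζ ≠ 1
  ne1 : ζ ≠ v
  ne2 : ζ ≠ w
  ne3 : ζ ≠ v * w
  comm1 : ζ * v = v * ζ
  comm2 : ζ * w = w * ζ
  tcls : IsConj T0 (psiHN ζ * T0)
  cls : ¬ IsConj T0 (psiHN ζ)
  cls1 : ¬ IsConj T0 (psiHN ζ * psiHN v)
  cls2 : ¬ IsConj T0 (psiHN ζ * psiHN w)
  cls3 : ¬ IsConj T0 (psiHN ζ * (psiHN v * psiHN w))

theorem Third.conj {ζ v w : H0} (h : Third ζ v w) (c : H0) :
    Third (c * ζ * c⁻¹) (c * v * c⁻¹) (c * w * c⁻¹) := by
  have inj : ∀ a b : H0, c * a * c⁻¹ = c * b * c⁻¹ → a = b := fun a b e =>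
    mul_left_cancel (mul_right_cancel e)
  refine ⟨conj_invol c h.sq, fun e => h.ne (inj _ _ (by rw [e]; group)), fun e => h.ne1 (inj _ _ e),
    fun e => h.ne2 (inj _ _ e), fun e => h.ne3 (inj _ _ (by rw [e]; group)), conj_comm c h.comm1,
    conj_comm c h.comm2, ?_, ?_, ?_, ?_, ?_⟩
  · have e : psiHN (c * ζ * c⁻¹) * T0 = psiHN c * (psiHN ζ * T0) * (psiHN c)⁻¹ := by
      rw [map_mul, map_mul, map_inv]
      calc psiHN c * psiHN ζ * (psiHN c)⁻¹ * T0 = psiHN c * psiHN ζ * ((psiHN c)⁻¹ * T0) := by group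
        _ = _ := by rw [← map_inv, ← T0_comm, map_inv]; group
    rw [e, isConj_conj_iff]; exact h.tcls
  · rw [map_mul, map_mul, map_inv, isConj_conj_iff]; exact h.cls
  · rw [show psiHN (c * ζ * c⁻¹) * psiHN (c * v * c⁻¹) = psiHN c * (psiHN ζ * psiHN v) * (psiHN c)⁻¹ by
      simp only [map_mul, map_inv]; group, isConj_conj_iff]
    exact h.cls1
  · rw [show psiHN (c * ζ * c⁻¹) * psiHN (c * w * c⁻¹) = psiHN c * (psiHN ζ * psiHN w) * (psiHN c)⁻¹ by
      simp only [map_mul, map_inv]; group, isConj_conj_iff]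
    exact h.cls2
  · rw [show psiHN (c * ζ * c⁻¹) * (psiHN (c * v * c⁻¹) * psiHN (c * w * c⁻¹)) =
      psiHN c * (psiHN ζ * (psiHN v * psiHN w)) * (psiHN c)⁻¹ by simp only [map_mul, map_inv]; group,
      isConj_conj_iff]
    exact h.cls3

theorem Third.entry (hlab : Labelled) {l i j : ℕ} (hl : l < 2048) (hi : i < 2048) (hj : j < 2048)
    (h : Third (eS l) (eS i) (eS j)) : okThird i j l = true := by
  obtain ⟨hij, eij⟩ := mulI_spec hi hj
  have ne : ∀ {a : ℕ}, eS l ≠ eS a → Nat.beq l a = false := fun {a} hne => by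
    cases hb : Nat.beq l a
    · rfl
    · exact absurd (by rw [Nat.eq_of_beq_eq_true hb]) hne
  have c1 := (label_mul hlab hl special_spec.1).1 (by rw [psi_iT]; exact h.tcls)
  have c0 := (not_label (hlab l hl)).1 h.cls
  have c2 := (not_label (label_mul hlab hl hi)).1 h.cls1
  have c3 := (not_label (label_mul hlab hl hj)).1 h.cls2
  have c4 := (not_label (label_mul hlab hl hij)).1 (by rw [eij, map_mul]; exact h.cls3)
  simp only [okThird, c0, c1, c2, c3, c4, ne (eS_zero ▸ h.ne), ne h.ne1, ne h.ne2, ne (eij ▸ h.ne3),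
    sq_zero hl h.sq]
  simp only [(mulI_comm_iff hl hi).2 h.comm1, (mulI_comm_iff hl hj).2 h.comm2,
    Nat.beq_refl, Bool.not_false, Bool.and_self]

theorem inv_mem {i : ℕ} (hi : i < 2048) (h0 : eS i ≠ 1) (h2 : eS i * eS i = 1) : i ∈ invList := by
  have h := allLo_spec invList_all hi
  simp only [Bool.or_eq_true, Nat.beq_eq, Bool.not_eq_true'] at h
  rcases h with (h | h) | h
  · exact absurd (by rw [h, eS_zero]) h0
  · rw [sq_zero hi h2] at h; exact absurd h (by decide)
  · exact memL_iff.1 h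

/-- A conjugate of `t` with the second profile commuting with `t`: none. -/
theorem case_commuting (hlab : Labelled) {ζ σ : H0} (h : Third ζ (eS 48) (eS iAT))
    (hσ : σ * σ = 1) (c1 : σ * eS 48 = eS 48 * σ) (c2 : σ * eS iAT = eS iAT * σ) (c3 : σ * ζ = ζ * σ)
    (p : IsConj T0 (psiHN σ)) (p12 : IsConj T0 (psiHN σ * (psiHN (eS 48) * psiHN (eS iAT))))
    (p1 : ¬ IsConj T0 (psiHN σ * psiHN (eS 48))) (p2 : ¬ IsConj T0 (psiHN σ * psiHN (eS iAT))) : False := by
  have hAT := special_spec.2.2.1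
  have h48 : (48 : ℕ) < 2048 := by norm_num
  have hv : eS 48 * eS 48 = 1 := (sq_one_iff h48).2 (by decide +kernel)
  have hvw : eS 48 * eS iAT = eS iAT * eS 48 := (mulI_comm_iff h48 hAT).1 (by decide +kernel)
  set S : Set H0 := {eS 48, ζ, σ} with hS
  have hle : Subgroup.closure S ≤ Subgroup.centralizer ({eS iAT} : Set H0) := by
    rw [Subgroup.closure_le]
    rintro a (rfl | rfl | rfl) <;> refine Subgroup.mem_centralizer_singleton_iff.2 ?_
    exacts [hvw, h.comm2, c2]
  have hp : IsPGroup 2 (Subgroup.closure S) := isPGroup_closure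
    (by rintro a (rfl | rfl | rfl); exacts [hv, h.sq, hσ])
    (by
      rintro a (rfl | rfl | rfl) b (rfl | rfl | rfl)
      exacts [rfl, h.comm1.symm, c1.symm, h.comm1, rfl, c3.symm, c1, c3, rfl])
  obtain ⟨c, hc, hin⟩ := conj_into_AT hp hle
  have hc' : c * eS iAT * c⁻¹ = eS iAT := by
    rw [Subgroup.mem_centralizer_singleton_iff.1 hc, mul_inv_cancel_right]
  obtain ⟨i, hi, ei⟩ := hin _ (Subgroup.subset_closure (Or.inl rfl))
  obtain ⟨l, hl, el'⟩ := hin _ (Subgroup.subset_closure (Or.inr (Or.inl rfl)))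
  obtain ⟨m, hm, em⟩ := hin _ (Subgroup.subset_closure (Or.inr (Or.inr rfl)))
  -- the entry of `48` is one of the forty
  have horb := orb_lt
  simp only [Bool.and_eq_true, List.all_eq_true, Nat.blt_eq] at horb
  have hio : i ∈ orb48 := by
    obtain ⟨j, hj, ej⟩ := orb_closed (b := c⁻¹) (by
      have hcc := Subgroup.mem_centralizer_singleton_iff.1 hc
      exact (Commute.inv_left hcc).eq) (memL_iff.1 horb.2)
    rw [inv_inv] at ej
    rwa [eS_injective hi (horb.1 j hj) (ei.trans ej)]
  have hthird := h.conj c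
  rw [← ei, hc', ← el'] at hthird
  have hq := hthird.entry hlab hl hi hAT
  obtain ⟨hij, eij⟩ := mulI_spec hi hAT
  have tr : ∀ x, psiHN (eS m) * (psiHN c * x * (psiHN c)⁻¹) = psiHN c * (psiHN σ * x) * (psiHN c)⁻¹ := fun x => by
    rw [em, map_mul, map_mul, map_inv]; group
  have ev1 : psiHN (eS i) = psiHN c * psiHN (eS 48) * (psiHN c)⁻¹ := by rw [ei, map_mul, map_mul, map_inv]
  have ev2 : psiHN (eS iAT) = psiHN c * psiHN (eS iAT) * (psiHN c)⁻¹ := by
    rw [← map_inv, ← map_mul, ← map_mul, hc']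
  have t1 := (hlab m hm).1 (by rw [em, map_mul, map_mul, map_inv, isConj_conj_iff]; exact p)
  have t2 := (not_label (label_mul hlab hm hi)).1 (by rw [ev1, tr, isConj_conj_iff]; exact p1)
  have t3 := (not_label (label_mul hlab hm hAT)).1 (by rw [ev2, tr, isConj_conj_iff]; exact p2)
  have t4 := (label_mul hlab hm hij).1 (by
    rw [eij, map_mul, ev1, ev2, show psiHN c * psiHN (eS 48) * (psiHN c)⁻¹ * (psiHN c * psiHN (eS iAT) * (psiHN c)⁻¹)
      = psiHN c * (psiHN (eS 48) * psiHN (eS iAT)) * (psiHN c)⁻¹ by group, tr, isConj_conj_iff]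
    exact p12)
  have hcm : eS m * eS i = eS i * eS m := by rw [ei, em]; exact conj_comm c c1
  have hcl : eS l * eS m = eS m * eS l := by rw [el', em]; exact conj_comm c c3.symm
  have hne : eS m ≠ 1 := fun e => by
    have := (hlab m hm).2 t1
    rw [e, map_one, isConj_one_left] at this
    have hne : psiHN (hx ^ 2) ≠ psiHN 1 := fun e => hx_sq_ne (psi_eq_iff.1 e)
    exact hne (by rw [map_one]; exact this)
  have hml : m ∈ invList := inv_mem hm hne (by rw [em]; exact conj_invol c hσ)
  have hll : l ∈ invList := inv_mem hl hthird.ne hthird.sq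
  have hscan := List.all_eq_true.1 (List.all_eq_true.1 scanA_ok i hio) m hml
  simp only [okCommuting, okPartner, t1, t2, t3, t4] at hscan
  simp only [(mulI_comm_iff hm hi).2 hcm, Nat.beq_refl,
    Bool.not_false, Bool.and_self, Bool.not_true, Bool.false_or, List.all_eq_true] at hscan
  have := hscan l hll
  simp [hq, (mulI_comm_iff hl hm).2 hcl] at this

/-- A conjugate of `t` at node 4 or 7 commuting with the triple: none. -/
theorem case_node (hlab : Labelled) {k skip : ℕ} {n u f L C : List ℕ} {hs : List Hint} {q : ℕ}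
    (hrun : okRun n hs k u = true) (hL : okNodeL k u f L C = true)
    (hcard : Nat.beq (schainSize (HN.Dat.xd.O.node k).chain) (Nat.mul L.length q) = true) (hq : Odd q)
    (hscan : okScan skip L = true)
    (hskip : skip < 2048 → IsConj T0 ((psiHN (el f) * sNode n * (psiHN (el f))⁻¹) * psiHN (eS skip)))
    {ζ v w : H0} (h : Third ζ v w) (hvv : v * v = 1) (hww : w * w = 1) (hvw : v * w = w * v)
    (sv : psiHN v * sNode n = sNode n * psiHN v) (sw : psiHN w * sNode n = sNode n * psiHN w)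
    (sz : psiHN ζ * sNode n = sNode n * psiHN ζ)
    {d : H0} (hdw : w = d * eS iAT * d⁻¹) (hdv : v = d * eS 48 * d⁻¹)
    (cw : ¬ IsConj T0 (psiHN w)) (cwT : IsConj T0 (psiHN w * T0)) (cv : ¬ IsConj T0 (psiHN v))
    (cvT : ¬ IsConj T0 (psiHN v * T0)) (cvw : ¬ IsConj T0 (psiHN v * psiHN w))
    (cvwT : ¬ IsConj T0 (psiHN v * psiHN w * T0)) (csw : ¬ IsConj T0 (sNode n * psiHN w)) : False := by
  haveI := finite_H0
  haveI : Fact (Nat.Prime 2) := ⟨Nat.prime_two⟩
  simp only [okNodeL, Bool.and_eq_true, Nat.beq_eq] at hL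
  obtain ⟨⟨⟨⟨hlu, hlf⟩, hL0⟩, hLC⟩, hall⟩ := hL
  rw [Nat.beq_eq] at hcard
  obtain ⟨hk, -⟩ := run_spec hrun
  have entry : ∀ p (hp : p < L.length), L[p] < 2048 ∧ (∀ p' (hp' : p' < p), L[p'] ≠ L[p]) ∧
      (∀ p' (hp' : p' < L.length), mulI L[p] L[p'] ∈ L) ∧
      el u * ((el f)⁻¹ * eS L[p] * el f) * (el u)⁻¹ ∈ HN.Dat.xd.O.sgrp k := by
    intro p hp
    have hp0 := allLo_spec hall hp
    simp only [Bool.and_eq_true, Nat.blt_eq, List.getD_eq_getElem _ _ hp] at hp0
    obtain ⟨⟨⟨⟨h1, h2⟩, h3⟩, h4⟩, h5⟩ := hp0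
    refine ⟨h1, fun p' hp' e => ?_, fun p' hp' => ?_, ?_⟩
    · have := allLo_spec h2 hp'
      rw [List.getD_eq_getElem _ _ (hp'.trans hp), e] at this
      simp at this
    · have := allLo_spec h3 hp'
      rw [List.getD_eq_getElem _ _ hp'] at this
      exact memL_iff.1 this
    · have e := el_eq h5
      simp only [el_append, el_winv] at e
      have hm : el (prodW (HN.Dat.xd.O.node k).chain (C.getD p 0)) ∈ HN.Dat.xd.O.sgrp k :=
        prodW_mem (HN.Dat.xok.omega.chain k hk) h4
      rw [← e] at hm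
      convert hm using 1
      rw [eS]; group
  -- the centraliser at the node, moved by `f`
  let φ : H0 →* H0 := (MulAut.conj (el u * (el f)⁻¹)).toMonoidHom
  set S' : Subgroup H0 := (HN.Dat.xd.O.sgrp k).comap φ with hS'
  have hmem : ∀ b : H0, el f * b * (el f)⁻¹ ∈ S' ↔ psiHN b * sNode n = sNode n * psiHN b := fun b => by
    rw [cent_node hrun b, hS', Subgroup.mem_comap]
    have : φ (el f * b * (el f)⁻¹) = el u * b * (el u)⁻¹ := by
      show el u * (el f)⁻¹ * (el f * b * (el f)⁻¹) * (el u * (el f)⁻¹)⁻¹ = _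
      group
    rw [this]
  let Lsub : Subgroup H0 :=
    { carrier := {a | ∃ i ∈ L, eS i = a}
      one_mem' := ⟨0, memL_iff.1 hL0, eS_zero⟩
      mul_mem' := by
        rintro _ _ ⟨i, hi, rfl⟩ ⟨j, hj, rfl⟩
        obtain ⟨p, hp, rfl⟩ := List.mem_iff_getElem.1 hi
        obtain ⟨p', hp', rfl⟩ := List.mem_iff_getElem.1 hj
        exact ⟨_, (entry p hp).2.2.1 p' hp', (mulI_spec (entry p hp).1 (entry p' hp').1).2⟩
      inv_mem' := by
        rintro _ ⟨i, hi, rfl⟩
        obtain ⟨p, hp, rfl⟩ := List.mem_iff_getElem.1 hi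
        have hpow : ∀ e : ℕ, ∃ j ∈ L, eS j = eS L[p] ^ e := by
          intro e
          induction e with
          | zero => exact ⟨0, memL_iff.1 hL0, by rw [eS_zero, pow_zero]⟩
          | succ e ih =>
            obtain ⟨j, hj, ej⟩ := ih
            obtain ⟨p', hp', rfl⟩ := List.mem_iff_getElem.1 hj
            exact ⟨_, (entry p' hp').2.2.1 p hp, by
              rw [(mulI_spec (entry p' hp').1 (entry p hp).1).2, ej, pow_succ]⟩
        rw [inv_eq_of_mul_eq_one_right (show eS L[p] * eS L[p] ^ (orderOf (eS L[p]) - 1) = 1 by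
          rw [← pow_succ', Nat.sub_add_cancel (orderOf_pos _), pow_orderOf_eq_one])]
        exact hpow _ }
  have hle : Lsub ≤ S' := by
    rintro _ ⟨i, hi, rfl⟩
    obtain ⟨p, hp, rfl⟩ := List.mem_iff_getElem.1 hi
    rw [hS', Subgroup.mem_comap]
    have := (entry p hp).2.2.2
    show el u * (el f)⁻¹ * eS L[p] * (el u * (el f)⁻¹)⁻¹ ∈ _
    convert this using 1
    group
  have hnd : L.Nodup := List.nodup_iff_injective_getElem.2 fun a b e => by
    rcases lt_trichotomy a.1 b.1 with h' | h' | h'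
    · exact absurd e ((entry b b.2).2.1 a h')
    · exact Fin.ext h'
    · exact absurd e.symm ((entry a a.2).2.1 b h')
  have hLcard : Nat.card Lsub = L.length := by
    rw [← Nat.card_fin L.length]
    refine (Nat.card_congr (Equiv.ofBijective
      (fun p : Fin L.length => (⟨eS L[p.1], L[p.1], List.getElem_mem p.2, rfl⟩ : Lsub)) ⟨?_, ?_⟩)).symm
    · intro a b e
      exact List.nodup_iff_injective_getElem.1 hnd
        (eS_injective (entry a a.2).1 (entry b b.2).1 (congrArg Subtype.val e))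
    · rintro ⟨_, i, hi, rfl⟩
      obtain ⟨p, hp, rfl⟩ := List.mem_iff_getElem.1 hi
      exact ⟨⟨p, hp⟩, rfl⟩
  have hScard : Nat.card S' = L.length * q := by
    have hf : φ = (MulAut.conj (el u * (el f)⁻¹)).toMonoidHom := rfl
    rw [← Subgroup.card_map_of_injective (f := φ) (MulAut.conj (el u * (el f)⁻¹)).injective,
      hS', Subgroup.map_comap_eq_self_of_surjective (MulAut.conj (el u * (el f)⁻¹)).surjective,
      OData.sgrp, (schain_exact (HN.Dat.xok.omega.chain k hk)).2, hcard]
    rfl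
  have hLp : IsPGroup 2 Lsub := fun ⟨a, i, hi, e⟩ => by
    obtain ⟨p, hp, rfl⟩ := List.mem_iff_getElem.1 hi
    have hd : orderOf a ∣ 2 ^ 11 := by
      rw [show (2 : ℕ) ^ 11 = Nat.card Syl by rw [card_Syl]; norm_num, ← e,
        ← Subgroup.orderOf_mk (eS L[p]) (eS_mem _ (entry p hp).1)]
      exact orderOf_dvd_natCard _
    exact ⟨11, Subtype.ext (orderOf_dvd_iff_pow_eq_one.1 hd)⟩
  have hindex : ¬ 2 ∣ (Lsub.subgroupOf S').index := by
    have h1 := Subgroup.card_mul_index (Lsub.subgroupOf S')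
    rw [Nat.card_congr (Subgroup.subgroupOfEquivOfLe hle).toEquiv, hLcard, hScard] at h1
    have hpos : 0 < L.length := List.length_pos_of_mem (memL_iff.1 hL0)
    rw [Nat.eq_of_mul_eq_mul_left hpos h1]
    exact fun h2 => Nat.not_even_iff_odd.2 hq (even_iff_two_dvd.2 h2)
  let S0 : Sylow 2 S' := (hLp.of_equiv (Subgroup.subgroupOfEquivOfLe hle).symm).toSylow hindex
  -- the four-group and the third involution
  set F := el f
  set E : Set H0 := {F * v * F⁻¹, F * w * F⁻¹, F * ζ * F⁻¹} with hE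
  have hEle : Subgroup.closure E ≤ S' := by
    rw [Subgroup.closure_le]
    rintro a (rfl | rfl | rfl)
    exacts [(hmem v).2 sv, (hmem w).2 sw, (hmem ζ).2 sz]
  have hEp : IsPGroup 2 (Subgroup.closure E) := isPGroup_closure
    (by rintro a (rfl | rfl | rfl); exacts [conj_invol F hvv, conj_invol F hww, conj_invol F h.sq])
    (by
      rintro a (rfl | rfl | rfl) b (rfl | rfl | rfl)
      exacts [rfl, conj_comm F hvw, conj_comm F h.comm1.symm, conj_comm F hvw.symm, rfl,
        conj_comm F h.comm2.symm, conj_comm F h.comm1, conj_comm F h.comm2, rfl])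
  obtain ⟨P, hP⟩ := IsPGroup.exists_le_sylow (hEp.comap_of_injective S'.subtype (Subgroup.subtype_injective S'))
  obtain ⟨g, hg⟩ := MulAction.exists_smul_eq S' P S0
  have moved : ∀ a ∈ E, ∃ i ∈ L, eS i = (g : H0) * a * (g : H0)⁻¹ := fun a ha => by
    have h1 : (⟨a, hEle (Subgroup.subset_closure ha)⟩ : S') ∈ (P : Subgroup S') :=
      hP (Subgroup.subset_closure ha)
    have h2 : g * ⟨a, hEle (Subgroup.subset_closure ha)⟩ * g⁻¹ ∈ (S0 : Subgroup S') := by
      rw [← hg]
      exact Subgroup.smul_mem_pointwise_smul _ (MulAut.conj g) _ h1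
    exact h2
  set c : H0 := (g : H0) * F with hc
  have cconj : ∀ x, (g : H0) * (F * x * F⁻¹) * (g : H0)⁻¹ = c * x * c⁻¹ := fun x => by rw [hc]; group
  obtain ⟨i, hiL, ei⟩ := moved _ (Or.inl rfl)
  obtain ⟨j, hjL, ej⟩ := moved _ (Or.inr (Or.inl rfl))
  obtain ⟨l, hlL, el'⟩ := moved _ (Or.inr (Or.inr rfl))
  rw [cconj] at ei ej el'
  have lt : ∀ {a}, a ∈ L → a < 2048 := fun {a} ha => by
    obtain ⟨p, hp, rfl⟩ := List.mem_iff_getElem.1 ha
    exact (entry p hp).1
  have hi := lt hiL
  have hj := lt hjL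
  have hl := lt hlL
  -- conjugation by `c` respects the classes
  have cT : ∀ x, IsConj T0 (psiHN (c * x * c⁻¹) * T0) ↔ IsConj T0 (psiHN x * T0) := fun x => by
    rw [← isConj_conj_iff (psiHN c) (psiHN x * T0)]
    refine iff_of_eq (congrArg _ ?_)
    simp only [map_mul, map_inv]
    calc psiHN c * psiHN x * (psiHN c)⁻¹ * T0 = psiHN c * psiHN x * ((psiHN c)⁻¹ * T0) := by group
      _ = _ := by rw [← map_inv, ← T0_comm, map_inv]; group
  have c0 : ∀ x, IsConj T0 (psiHN (c * x * c⁻¹)) ↔ IsConj T0 (psiHN x) := fun x => by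
    rw [map_mul, map_mul, map_inv, isConj_conj_iff]
  have eij : eS (mulI i j) = c * (v * w) * c⁻¹ := by rw [(mulI_spec hi hj).2, ei, ej]; group
  have hijlt := (mulI_spec hi hj).1
  have a1 := (not_label (hlab i hi)).1 (by rw [ei, c0]; exact cv)
  have a2 := (not_label (label_mul hlab hi special_spec.1)).1 (by rw [psi_iT, ei, cT]; exact cvT)
  have a3 := (not_label (hlab _ hijlt)).1 (by rw [eij, c0, map_mul]; exact cvw)
  have a4 := (not_label (label_mul hlab hijlt special_spec.1)).1 (by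
    rw [psi_iT, eij, cT, map_mul]; exact cvwT)
  have b1 := (not_label (hlab j hj)).1 (by rw [ej, c0]; exact cw)
  have b2 := (label_mul hlab hj special_spec.1).1 (by rw [psi_iT, ej, cT]; exact cwT)
  have hjd : eS j = c * d * eS iAT * (c * d)⁻¹ := by rw [ej, hdw]; group
  have b3 : parI j = false := by
    have hATc : eS iAT ∈ commutator H0 := by
      by_contra hn
      rw [par_iff special_spec.2.2.1, special_spec.2.2.2.2.2.2.2.2.2.1] at hn
      exact Bool.false_ne_true hn
    by_contra hp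
    rw [Bool.not_eq_false] at hp
    refine (par_iff hj).2 hp ?_
    rw [hjd]
    exact (inferInstance : (commutator H0).Normal).conj_mem _ hATc _
  have hjne : Nat.beq j skip = false := by
    cases hb : Nat.beq j skip
    · rfl
    exfalso
    obtain rfl := Nat.eq_of_beq_eq_true hb
    have hgc : psiHN (g : H0) * (psiHN F * sNode n * (psiHN F)⁻¹) =
        psiHN F * sNode n * (psiHN F)⁻¹ * psiHN (g : H0) := by
      have := (hmem ((F)⁻¹ * g * F)).1 (by simpa [mul_assoc] using g.2)
      simp only [map_mul, map_inv] at this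
      calc psiHN (g : H0) * (psiHN F * sNode n * (psiHN F)⁻¹)
          = psiHN F * ((psiHN F)⁻¹ * psiHN (g : H0) * psiHN F * sNode n) * (psiHN F)⁻¹ := by group
        _ = _ := by rw [this]; group
    refine csw ((isConj_conj_iff (psiHN (g : H0) * psiHN F) _).1 ?_)
    have e : psiHN (g : H0) * psiHN F * (sNode n * psiHN w) * (psiHN (g : H0) * psiHN F)⁻¹ =
        psiHN F * sNode n * (psiHN F)⁻¹ * psiHN (eS j) := by
      rw [ej, hc]
      simp only [map_mul, map_inv]
      calc psiHN (g : H0) * psiHN F * (sNode n * psiHN w) * (psiHN (g : H0) * psiHN F)⁻¹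
          = psiHN (g : H0) * (psiHN F * sNode n * (psiHN F)⁻¹) *
              (psiHN F * psiHN w * (psiHN F)⁻¹ * (psiHN (g : H0))⁻¹) := by group
        _ = _ := by rw [hgc]; group
    rw [e]
    exact hskip hj
  have b0 : Nat.beq j 0 = false := by
    cases hb : Nat.beq j 0
    · rfl
    exfalso
    obtain rfl := Nat.eq_of_beq_eq_true hb
    have hw1 : w = 1 := by
      rw [eS_zero] at ej
      have := congrArg (fun x => c⁻¹ * x * c) ej
      simpa [mul_assoc] using this.symm
    have : IsConj T0 (psiHN v * psiHN w * T0) ↔ IsConj T0 (psiHN v * T0) := by rw [hw1, map_one, mul_one]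
    have hne : eS iAT ≠ 1 := fun e => by
      have := eS_injective special_spec.2.2.1 (by norm_num) (e.trans eS_zero.symm)
      exact absurd this (by decide +kernel)
    apply hne
    rw [hw1] at hdw
    have := congrArg (fun x => d⁻¹ * x * d) hdw
    simpa [mul_assoc] using this.symm
  have hjs : sqI j = 0 := sq_zero hj (by rw [ej]; exact conj_invol c hww)
  have his : sqI i = 0 := sq_zero hi (by rw [ei]; exact conj_invol c hvv)
  have hscanj := List.all_eq_true.1 hscan j hjL
  simp only [okSecond, hjne, b0, hjs, b3, b1, b2, Nat.beq_refl, Bool.not_false, Bool.and_self, Bool.not_true,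
    Bool.false_or, Bool.and_eq_true, Nat.beq_eq, List.all_eq_true] at hscanj
  obtain ⟨⟨hcls, hlw⟩, hrest⟩ := hscanj
  -- the orbit of the first member
  obtain ⟨-, -, hwit⟩ := wit_spec hj (fun e => by rw [e] at b0; simp at b0) hjs
  rw [hcls, special_spec.2.2.2.2.2.2.2.2.2.2.2.2.2.1] at hwit
  set W := el (conjI j) with hW
  have horb := orb_lt
  simp only [Bool.and_eq_true, List.all_eq_true, Nat.blt_eq] at horb
  obtain ⟨j', hj', ej'⟩ := orb_closed (b := (W * (c * d))⁻¹) (by
    have e : W * (c * d) * eS iAT * (W * (c * d))⁻¹ = eS iAT := by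
      calc W * (c * d) * eS iAT * (W * (c * d))⁻¹ = W * (c * d * eS iAT * (c * d)⁻¹) * W⁻¹ := by group
        _ = eS iAT := by rw [← hjd, ← hwit]; group
    rw [mul_inv_eq_iff_eq_mul] at e
    exact (Commute.inv_left e).eq) (memL_iff.1 horb.2)
  rw [inv_inv] at ej'
  have hin : inOrbit i j = true := by
    rw [inOrbit, memL_iff, List.mem_map]
    refine ⟨j', hj', ?_⟩
    rw [← (word_spec (horb.1 j' hj')).2]
    refine (keyW_eq_iff (word_spec (horb.1 j' hj')).1
      (letOK_cat (letOK_cat hlw (word_spec hi).1) (letOK_winv hlw))).2 ?_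
    rw [el_append, el_append, el_winv]
    show eS j' = W * eS i * W⁻¹
    rw [← ej', ei, hdv]; group
  have hcomm : eS i * eS j = eS j * eS i := by rw [ei, ej]; exact conj_comm c hvw
  have hp : okSecPair i j = true := by
    simp only [okSecPair, a1, a2, a3, a4, his]
    simp only [(mulI_comm_iff hi hj).2 hcomm, Nat.beq_refl, Bool.not_false, Bool.and_self]
  have hfin := hrest i hiL
  simp only [hp, hin, Bool.and_self, Bool.not_true, Bool.false_or, List.all_eq_true] at hfin
  have hthird := h.conj c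
  rw [← ei, ← ej, ← el'] at hthird
  have := hfin l hlL
  simp [hthird.entry hlab hl hi hj] at this

end

end Cfsg.Agent.HNRecog.Classes
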