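import Cfsg.Agent.Lib.HNRecog.Classes.ThreeWords
import Cfsg.Agent.Lib.HN.LoopData

/-! Kernel checks: loops of the words. -/

set_option autoImplicit false
set_option maxRecDepth 100000
set_option maxHeartbeats 0
set_option Elab.async false

namespace Cfsg.Agent.HNRecog

open Cfsg.Agent.HN Cfsg.Agent.HN.Dat

theorem start_ord1_0 : xd.okStart altU (ordW Dat.nodeW1 5) Dat.loops_ord1 0 = true := by decide +kernel

theorem start_ord1_1 : xd.okStart altU (ordW Dat.nodeW1 5) Dat.loops_ord1 1 = true := by decide +kernel

theorem start_ord1_2 : xd.okStart altU (ordW Dat.nodeW1 5) Dat.loops_ord1 2 = true := by decide +kernel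

theorem start_ord1_3 : xd.okStart altU (ordW Dat.nodeW1 5) Dat.loops_ord1 3 = true := by decide +kernel

theorem start_ord1_4 : xd.okStart altU (ordW Dat.nodeW1 5) Dat.loops_ord1 4 = true := by decide +kernel

theorem start_ord1_5 : xd.okStart altU (ordW Dat.nodeW1 5) Dat.loops_ord1 5 = true := by decide +kernel

theorem start_ord1_6 : xd.okStart altU (ordW Dat.nodeW1 5) Dat.loops_ord1 6 = true := by decide +kernel

theorem word_ord1 : xd.okWord altU (ordW Dat.nodeW1 5) Dat.loops_ord1 = true :=
  okWord_intro start_ord1_0 start_ord1_1 start_ord1_2 start_ord1_3 start_ord1_4 start_ord1_5 start_ord1_6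

theorem start_ord2_0 : xd.okStart altU (ordW Dat.nodeW2 3) Dat.loops_ord2 0 = true := by decide +kernel

theorem start_ord2_1 : xd.okStart altU (ordW Dat.nodeW2 3) Dat.loops_ord2 1 = true := by decide +kernel

theorem start_ord2_2 : xd.okStart altU (ordW Dat.nodeW2 3) Dat.loops_ord2 2 = true := by decide +kernel

theorem start_ord2_3 : xd.okStart altU (ordW Dat.nodeW2 3) Dat.loops_ord2 3 = true := by decide +kernel

theorem start_ord2_4 : xd.okStart altU (ordW Dat.nodeW2 3) Dat.loops_ord2 4 = true := by decide +kernel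

theorem start_ord2_5 : xd.okStart altU (ordW Dat.nodeW2 3) Dat.loops_ord2 5 = true := by decide +kernel

theorem start_ord2_6 : xd.okStart altU (ordW Dat.nodeW2 3) Dat.loops_ord2 6 = true := by decide +kernel

theorem word_ord2 : xd.okWord altU (ordW Dat.nodeW2 3) Dat.loops_ord2 = true :=
  okWord_intro start_ord2_0 start_ord2_1 start_ord2_2 start_ord2_3 start_ord2_4 start_ord2_5 start_ord2_6

theorem start_ord3_0 : xd.okStart altU (ordW Dat.nodeW3 2) Dat.loops_ord3 0 = true := by decide +kernel

theorem start_ord3_1 : xd.okStart altU (ordW Dat.nodeW3 2) Dat.loops_ord3 1 = true := by decide +kernel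

theorem start_ord3_2 : xd.okStart altU (ordW Dat.nodeW3 2) Dat.loops_ord3 2 = true := by decide +kernel

theorem start_ord3_3 : xd.okStart altU (ordW Dat.nodeW3 2) Dat.loops_ord3 3 = true := by decide +kernel

theorem start_ord3_4 : xd.okStart altU (ordW Dat.nodeW3 2) Dat.loops_ord3 4 = true := by decide +kernel

theorem start_ord3_5 : xd.okStart altU (ordW Dat.nodeW3 2) Dat.loops_ord3 5 = true := by decide +kernel

theorem start_ord3_6 : xd.okStart altU (ordW Dat.nodeW3 2) Dat.loops_ord3 6 = true := by decide +kernel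

theorem word_ord3 : xd.okWord altU (ordW Dat.nodeW3 2) Dat.loops_ord3 = true :=
  okWord_intro start_ord3_0 start_ord3_1 start_ord3_2 start_ord3_3 start_ord3_4 start_ord3_5 start_ord3_6

theorem start_ord5_0 : xd.okStart altU (ordW Dat.nodeW5 5) Dat.loops_ord5 0 = true := by decide +kernel

theorem start_ord5_1 : xd.okStart altU (ordW Dat.nodeW5 5) Dat.loops_ord5 1 = true := by decide +kernel

theorem start_ord5_2 : xd.okStart altU (ordW Dat.nodeW5 5) Dat.loops_ord5 2 = true := by decide +kernel

theorem start_ord5_3 : xd.okStart altU (ordW Dat.nodeW5 5) Dat.loops_ord5 3 = true := by decide +kernel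

theorem start_ord5_4 : xd.okStart altU (ordW Dat.nodeW5 5) Dat.loops_ord5 4 = true := by decide +kernel

theorem start_ord5_5 : xd.okStart altU (ordW Dat.nodeW5 5) Dat.loops_ord5 5 = true := by decide +kernel

theorem start_ord5_6 : xd.okStart altU (ordW Dat.nodeW5 5) Dat.loops_ord5 6 = true := by decide +kernel

theorem word_ord5 : xd.okWord altU (ordW Dat.nodeW5 5) Dat.loops_ord5 = true :=
  okWord_intro start_ord5_0 start_ord5_1 start_ord5_2 start_ord5_3 start_ord5_4 start_ord5_5 start_ord5_6

end Cfsg.Agent.HNRecog
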