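import Cfsg.Agent.Lib.HNRecog.Classes.ThreeWords
import Cfsg.Agent.Lib.HN.LoopData

/-! Kernel checks: loops of the words. -/

set_option autoImplicit false
set_option maxRecDepth 100000
set_option maxHeartbeats 0
set_option Elab.async false

namespace Cfsg.Agent.HNRecog

open Cfsg.Agent.HN Cfsg.Agent.HN.Dat

theorem start_ord6_0 : xd.okStart altU (ordW Dat.nodeW6 6) Dat.loops_ord6 0 = true := by decide +kernel

theorem start_ord6_1 : xd.okStart altU (ordW Dat.nodeW6 6) Dat.loops_ord6 1 = true := by decide +kernel

theorem start_ord6_2 : xd.okStart altU (ordW Dat.nodeW6 6) Dat.loops_ord6 2 = true := by decide +kernel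

theorem start_ord6_3 : xd.okStart altU (ordW Dat.nodeW6 6) Dat.loops_ord6 3 = true := by decide +kernel

theorem start_ord6_4 : xd.okStart altU (ordW Dat.nodeW6 6) Dat.loops_ord6 4 = true := by decide +kernel

theorem start_ord6_5 : xd.okStart altU (ordW Dat.nodeW6 6) Dat.loops_ord6 5 = true := by decide +kernel

theorem start_ord6_6 : xd.okStart altU (ordW Dat.nodeW6 6) Dat.loops_ord6 6 = true := by decide +kernel

theorem word_ord6 : xd.okWord altU (ordW Dat.nodeW6 6) Dat.loops_ord6 = true :=
  okWord_intro start_ord6_0 start_ord6_1 start_ord6_2 start_ord6_3 start_ord6_4 start_ord6_5 start_ord6_6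

theorem start_sig_0 : xd.okStart altU sigWord Dat.loops_sig 0 = true := by decide +kernel

theorem start_sig_1 : xd.okStart altU sigWord Dat.loops_sig 1 = true := by decide +kernel

theorem start_sig_2 : xd.okStart altU sigWord Dat.loops_sig 2 = true := by decide +kernel

theorem start_sig_3 : xd.okStart altU sigWord Dat.loops_sig 3 = true := by decide +kernel

theorem start_sig_4 : xd.okStart altU sigWord Dat.loops_sig 4 = true := by decide +kernel

theorem start_sig_5 : xd.okStart altU sigWord Dat.loops_sig 5 = true := by decide +kernel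

theorem start_sig_6 : xd.okStart altU sigWord Dat.loops_sig 6 = true := by decide +kernel

theorem word_sig : xd.okWord altU sigWord Dat.loops_sig = true :=
  okWord_intro start_sig_0 start_sig_1 start_sig_2 start_sig_3 start_sig_4 start_sig_5 start_sig_6

end Cfsg.Agent.HNRecog
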