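import Cfsg.Agent.Lib.HNRecog.Classes.ThreeWords
import Cfsg.Agent.Lib.HN.LoopData

/-! Kernel checks: loops of the words. -/

set_option autoImplicit false
set_option maxRecDepth 100000
set_option maxHeartbeats 0
set_option Elab.async false

namespace Cfsg.Agent.HNRecog

open Cfsg.Agent.HN Cfsg.Agent.HN.Dat

theorem start_ord8_0 : xd.okStart altU (ordW Dat.nodeW8 2) Dat.loops_ord8 0 = true := by decide +kernel

theorem start_ord8_1 : xd.okStart altU (ordW Dat.nodeW8 2) Dat.loops_ord8 1 = true := by decide +kernel

theorem start_ord8_2 : xd.okStart altU (ordW Dat.nodeW8 2) Dat.loops_ord8 2 = true := by decide +kernel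

theorem start_ord8_3 : xd.okStart altU (ordW Dat.nodeW8 2) Dat.loops_ord8 3 = true := by decide +kernel

theorem start_ord8_4 : xd.okStart altU (ordW Dat.nodeW8 2) Dat.loops_ord8 4 = true := by decide +kernel

theorem start_ord8_5 : xd.okStart altU (ordW Dat.nodeW8 2) Dat.loops_ord8 5 = true := by decide +kernel

theorem start_ord8_6 : xd.okStart altU (ordW Dat.nodeW8 2) Dat.loops_ord8 6 = true := by decide +kernel

theorem word_ord8 : xd.okWord altU (ordW Dat.nodeW8 2) Dat.loops_ord8 = true :=
  okWord_intro start_ord8_0 start_ord8_1 start_ord8_2 start_ord8_3 start_ord8_4 start_ord8_5 start_ord8_6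

theorem start_two1_0 : xd.okStart altU twoWord1 Dat.loops_two1 0 = true := by decide +kernel

theorem start_two1_1 : xd.okStart altU twoWord1 Dat.loops_two1 1 = true := by decide +kernel

theorem start_two1_2 : xd.okStart altU twoWord1 Dat.loops_two1 2 = true := by decide +kernel

theorem start_two1_3 : xd.okStart altU twoWord1 Dat.loops_two1 3 = true := by decide +kernel

theorem start_two1_4 : xd.okStart altU twoWord1 Dat.loops_two1 4 = true := by decide +kernel

theorem start_two1_5 : xd.okStart altU twoWord1 Dat.loops_two1 5 = true := by decide +kernel

theorem start_two1_6 : xd.okStart altU twoWord1 Dat.loops_two1 6 = true := by decide +kernel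

theorem word_two1 : xd.okWord altU twoWord1 Dat.loops_two1 = true :=
  okWord_intro start_two1_0 start_two1_1 start_two1_2 start_two1_3 start_two1_4 start_two1_5 start_two1_6

theorem start_two2_0 : xd.okStart altU twoWord2 Dat.loops_two2 0 = true := by decide +kernel

theorem start_two2_1 : xd.okStart altU twoWord2 Dat.loops_two2 1 = true := by decide +kernel

theorem start_two2_2 : xd.okStart altU twoWord2 Dat.loops_two2 2 = true := by decide +kernel

theorem start_two2_3 : xd.okStart altU twoWord2 Dat.loops_two2 3 = true := by decide +kernel

theorem start_two2_4 : xd.okStart altU twoWord2 Dat.loops_two2 4 = true := by decide +kernel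

theorem start_two2_5 : xd.okStart altU twoWord2 Dat.loops_two2 5 = true := by decide +kernel

theorem start_two2_6 : xd.okStart altU twoWord2 Dat.loops_two2 6 = true := by decide +kernel

theorem word_two2 : xd.okWord altU twoWord2 Dat.loops_two2 = true :=
  okWord_intro start_two2_0 start_two2_1 start_two2_2 start_two2_3 start_two2_4 start_two2_5 start_two2_6

theorem start_seven_0 : xd.okStart altU sevenWord Dat.loops_seven 0 = true := by decide +kernel

theorem start_seven_1 : xd.okStart altU sevenWord Dat.loops_seven 1 = true := by decide +kernel

theorem start_seven_2 : xd.okStart altU sevenWord Dat.loops_seven 2 = true := by decide +kernel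

theorem start_seven_3 : xd.okStart altU sevenWord Dat.loops_seven 3 = true := by decide +kernel

theorem start_seven_4 : xd.okStart altU sevenWord Dat.loops_seven 4 = true := by decide +kernel

theorem start_seven_5 : xd.okStart altU sevenWord Dat.loops_seven 5 = true := by decide +kernel

theorem start_seven_6 : xd.okStart altU sevenWord Dat.loops_seven 6 = true := by decide +kernel

theorem word_seven : xd.okWord altU sevenWord Dat.loops_seven = true :=
  okWord_intro start_seven_0 start_seven_1 start_seven_2 start_seven_3 start_seven_4 start_seven_5 start_seven_6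

end Cfsg.Agent.HNRecog
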