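import Cfsg.Agent.Lib.HNRecog.Classes.Core
import Cfsg.Agent.Lib.HNRecog.Classes.ThreeChecks
import Cfsg.Agent.Lib.HNRecog.Classes.WordCheckA
import Cfsg.Agent.Lib.HNRecog.Classes.WordCheckB
import Cfsg.Agent.Lib.HNRecog.Classes.WordCheckC

/-!
Conjugates of the central involution by the nine nodes, their centralisers in the group of `x, y, z`, and the orbit of
forty conjugates under the centraliser of `a t`.
-/

set_option autoImplicit false
set_option maxRecDepth 100000
set_option linter.style.haveILetI false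

namespace Cfsg.Agent.HNRecog.Classes

open Cfsg.Agent.HN Cfsg.Agent.HNMult

noncomputable section

theorem T0_sq : T0 * T0 = 1 := by
  rw [T0, ← map_mul, ← pow_add, hx_pow_four, map_one]

theorem T0_comm (b : H0) : T0 * psiHN b = psiHN b * T0 := by
  rw [T0, ← map_mul, ← map_mul, Subgroup.mem_center_iff.1 hx_sq_central b]

theorem mem_range_iff {g : Cfsg.Spor.HN} : g * T0 = T0 * g ↔ g ∈ psiHN.range := HNOut.cent_x2

theorem okAtoms_cat {u v : List ℕ} : okAtoms (u ++ v) = (okAtoms u && okAtoms v) := by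
  simp [okAtoms, List.all_append]

theorem hnG_iv {a : ℕ} (ha : a < 5) : hnG (iv5 a) = (hnG a)⁻¹ := by
  have hb : iv5 a < 5 := by
    have : allLo (fun a => Nat.blt (iv5 a) 5) 5 = true := by decide +kernel
    exact Nat.blt_eq ▸ allLo_spec this ha
  rw [hnG, atomG, atomG, if_pos ha, if_pos hb, ← map_inv]
  refine congrArg psiHN ?_
  rw [el, el, wv_singleton, wv_singleton, g5_inv]

theorem ev_winvA : ∀ W : List ℕ, okAtoms W = true → ev (winvA W) = (ev W)⁻¹ := by
  intro W
  induction W with
  | nil => intro _; simp [winvA, ev_nil]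
  | cons a W ih =>
    intro h
    simp only [okAtoms, List.all_cons, Bool.and_eq_true, Nat.blt_eq] at h
    rw [winvA, ev_append, ih h.2, show ev (a :: W) = hnG a * ev W from rfl, mul_inv_rev]
    congr 1
    cases ha : Nat.blt a 5 with
    | true => rw [Nat.blt_eq] at ha; rw [cond_true, ev, wv_singleton, hnG_iv ha]
    | false =>
      have hna : ¬ a < 5 := fun e => by rw [← Nat.blt_eq, ha] at e; exact Bool.noConfusion e
      have e5 : hnG a = tHN := if_neg hna
      have e5' : hnG 5 = tHN := if_neg (by norm_num)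
      rw [cond_false, e5]
      show wv hnG [5, 5, 5, 5] = _
      simp only [wv, e5', mul_one]
      refine eq_inv_of_mul_eq_one_left ?_
      have := rulesHN.pow5
      simp only [pow_succ, pow_zero, one_mul] at this
      simpa [mul_assoc] using this

theorem word_val {W : List ℕ} {L : List (List Hint × ℕ)} (hW : okAtoms W = true)
    (h : HN.Dat.xd.okWord HN.Dat.altU W L = true) : ev W = 1 :=
  word_one HN.Dat.xok HN.Dat.altU_ok hW h

/-- The conjugate of the central involution by the inverse of a word. -/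
def sNode (n : List ℕ) : Cfsg.Spor.HN := (ev n)⁻¹ * T0 * ev n

theorem ev_sWord {n : List ℕ} (hn : okAtoms n = true) : ev (sWord n) = sNode n := by
  rw [sWord, ev_append, ev_append, ev_winvA n hn, ev_T, sNode]

theorem ev_powW (w : List ℕ) : ∀ e, ev (powW w e) = ev w ^ e
  | 0 => by rw [powW, ev_nil, pow_zero]
  | e + 1 => by rw [powW, ev_append, ev_powW w e, pow_succ']

theorem run_spec {n : List ℕ} {hs : List Hint} {k : ℕ} {u : List ℕ} (h : okRun n hs k u = true) :
    ∃ hk : k < HN.Dat.xd.O.nodes.length, act (ev n) base = HN.Dat.xd.O.pt k hk (el u) := by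
  unfold okRun at h
  simp only [Bool.and_eq_true, Nat.blt_eq] at h
  obtain ⟨⟨⟨hn, hk⟩, -⟩, h⟩ := h
  refine ⟨hk, ?_⟩
  split at h
  · rename_i k' u' r
    simp only [Bool.and_eq_true, Nat.beq_eq] at h
    obtain ⟨rfl, he⟩ := h
    obtain ⟨n1, e1⟩ := runH_spec HN.Dat.xok.omega n _ _ HN.Dat.xok.node0.1 _ _ _ r
    rw [← el_eq he, ← e1, act_ev hn, base, basePt, el_nil]
  · exact absurd h Bool.false_ne_true

/-- The centraliser of the conjugate at a node is the subgroup of the node. -/
theorem cent_node {n : List ℕ} {hs : List Hint} {k : ℕ} {u : List ℕ} (h : okRun n hs k u = true) (b : H0) :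
    psiHN b * sNode n = sNode n * psiHN b ↔ el u * b * (el u)⁻¹ ∈ HN.Dat.xd.O.sgrp k := by
  obtain ⟨hk, hp⟩ := run_spec h
  have h1 : psiHN b * sNode n = sNode n * psiHN b ↔
      (ev n * psiHN b * (ev n)⁻¹) * T0 = T0 * (ev n * psiHN b * (ev n)⁻¹) := by
    rw [sNode]
    constructor <;> intro e
    · calc ev n * psiHN b * (ev n)⁻¹ * T0
          = ev n * (psiHN b * ((ev n)⁻¹ * T0 * ev n)) * (ev n)⁻¹ := by group
        _ = _ := by rw [e]; group
    · calc psiHN b * ((ev n)⁻¹ * T0 * ev n)
          = (ev n)⁻¹ * (ev n * psiHN b * (ev n)⁻¹ * T0) * ev n := by group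
        _ = _ := by rw [e]; group
  rw [h1, mem_range_iff, ← act_base, act_mul, act_mul, hp]
  have hact : act (psiHN b) (HN.Dat.xd.O.pt k hk (el u)) = HN.Dat.xd.O.pt k hk (el u * b) := by
    rw [act, ← map_inv, ← map_inv, modelHom_psi, OData.rho_pt]
  rw [hact]
  constructor
  · intro e
    have e2 : HN.Dat.xd.O.pt k hk (el u * b) = HN.Dat.xd.O.pt k hk (el u) := by
      have e' := congrArg (act (ev n)) e
      rw [hp] at e'
      rwa [← act_mul, inv_mul_cancel, act_one] at e'
    simpa [mul_assoc] using OData.pt_mem hk e2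
  · intro e
    rw [OData.pt_eq hk (h := el u * b) (h' := el u) (by simpa [mul_assoc] using e), ← hp, act_inv]

/-- Every conjugate of the central involution is a conjugate of one at a node by the group of `x, y, z`. -/
theorem exists_node {s : Cfsg.Spor.HN} (hs : IsConj T0 s) :
    ∃ k < 9, ∃ b : H0, s = (psiHN b)⁻¹ * sNode (nodeW k) * psiHN b := by
  obtain ⟨g, hg⟩ := isConj_iff.1 hs
  obtain ⟨k, hk, a, b, e⟩ := union_univ HN.Dat.xok rulesHN top_eq g⁻¹
  rw [HN.Dat.lengths.1] at hk
  refine ⟨k, hk, b, ?_⟩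
  have hnode : HN.Dat.xd.node psiHN tHN k = ev (nodeW k) := by
    rw [← nodeAtoms_spec HN.Dat.xok HN.Dat.defsOK 9 k hk (by rw [HN.Dat.lengths.1]; exact hk),
      eq_of_eqW (allLo_spec nodeW_ok hk)]
    rfl
  rw [hnode] at e
  have hg' : g = (psiHN a * ev (nodeW k) * psiHN b)⁻¹ := by rw [← e, inv_inv]
  rw [← hg, hg', sNode]
  calc (psiHN a * ev (nodeW k) * psiHN b)⁻¹ * T0 * ((psiHN a * ev (nodeW k) * psiHN b)⁻¹)⁻¹
      = (psiHN b)⁻¹ * ((ev (nodeW k))⁻¹ * ((psiHN a)⁻¹ * (T0 * psiHN a)) * ev (nodeW k)) * psiHN b := by group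
    _ = _ := by rw [T0_comm, inv_mul_cancel_left]

/-- Away from the nodes 4 and 7 the product with the conjugate has no even order above two. -/
theorem node_pow {k : ℕ} (hk : k < 9) (h4 : k ≠ 4) (h7 : k ≠ 7) :
    ∃ e, Nat.gcd e (2 ^ 64) ∣ 2 ∧ (T0 * sNode (nodeW k)) ^ e = 1 := by
  have key : ∀ (e : ℕ) (n : List ℕ) (L : List (List Hint × ℕ)), okAtoms (ordW n e) = true →
      HN.Dat.xd.okWord HN.Dat.altU (ordW n e) L = true → okAtoms n = true →
      (T0 * sNode n) ^ e = 1 := by
    intro e n L ha hw hn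
    have := word_val ha hw
    rwa [ordW, ev_powW, ev_append, ev_T, ev_sWord hn] at this
  have hat : ∀ j < 9, okAtoms (nodeW j) = true := fun j hj => allLo_spec atoms_ok hj
  interval_cases k
  · refine ⟨1, by decide, ?_⟩
    rw [sNode, show nodeW 0 = [] from rfl, ev_nil, inv_one, one_mul, mul_one, T0_sq, one_pow]
  · exact ⟨5, by decide, key _ _ _ (by decide +kernel) word_ord1 (hat 1 (by norm_num))⟩
  · exact ⟨3, by decide, key _ _ _ (by decide +kernel) word_ord2 (hat 2 (by norm_num))⟩
  · exact ⟨2, by decide, key _ _ _ (by decide +kernel) word_ord3 (hat 3 (by norm_num))⟩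
  · exact absurd rfl h4
  · exact ⟨5, by decide, key _ _ _ (by decide +kernel) word_ord5 (hat 5 (by norm_num))⟩
  · exact ⟨6, by decide, key _ _ _ (by decide +kernel) word_ord6 (hat 6 (by norm_num))⟩
  · exact absurd rfl h7
  · exact ⟨2, by decide, key _ _ _ (by decide +kernel) word_ord8 (hat 8 (by norm_num))⟩

/-- The forty conjugates are permuted by the centraliser of `a t`. -/
theorem orb_closed {b : H0} (hb : b * eS iAT = eS iAT * b) {i : ℕ} (hi : i ∈ orb48) :
    ∃ j ∈ orb48, b⁻¹ * eS i * b = eS j := by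
  have hs := sigma_ok
  simp only [Bool.and_eq_true] at hs
  obtain ⟨⟨hl1, hl2⟩, he⟩ := hs
  have eσ := el_eq he
  rw [el_append, el_append, el_append, el_winv] at eσ
  set h := el Dat.movW with hh
  set T : H0 := el [0, 0] with hT
  have hTc : ∀ a : H0, a * T = T * a := fun a => by
    have : T = hx ^ 2 := by rw [hT, sq]; simp [el, wv, g5]
    rw [this]; exact Subgroup.mem_center_iff.1 hx_sq_central a
  have hσ : psiHN (el Dat.sigW) = sNode Dat.nodeW8 := by
    have hn8 : okAtoms Dat.nodeW8 = true := allLo_spec atoms_ok (i := 8) (by norm_num)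
    have hsa : okAtoms Dat.sigW = true := by decide +kernel
    have := word_val (W := sigWord) (by decide +kernel) word_sig
    rw [sigWord, ev_append, ev_sWord hn8, ev_winvA _ hsa, ev_letters hl1, mul_inv_eq_one] at this
    exact this.symm
  have hc : h * b * h⁻¹ * el Dat.sigW = el Dat.sigW * (h * b * h⁻¹) := by
    have h1 : h * b * h⁻¹ * (el Dat.sigW * T) = el Dat.sigW * T * (h * b * h⁻¹) := by
      rw [← eσ]
      show h * b * h⁻¹ * (h * eS iAT * h⁻¹) = h * eS iAT * h⁻¹ * (h * b * h⁻¹)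
      calc h * b * h⁻¹ * (h * eS iAT * h⁻¹) = h * (b * eS iAT) * h⁻¹ := by group
        _ = _ := by rw [hb]; group
    rw [← mul_assoc, mul_assoc (el Dat.sigW), ← hTc, ← mul_assoc] at h1
    exact mul_right_cancel h1
  have hm : el Dat.nodeU8 * (h * b * h⁻¹) * (el Dat.nodeU8)⁻¹ ∈ HN.Dat.xd.O.sgrp 8 :=
    (cent_node run8_ok _).1 (by rw [← hσ, ← map_mul, ← map_mul, hc])
  -- the claim for the subgroup of the last node
  set m := el movU with hmdef
  have hmU : m = el Dat.nodeU8 * h := el_append _ _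
  suffices key : ∀ a ∈ HN.Dat.xd.O.sgrp 8, ∀ i ∈ orb48, ∃ j ∈ orb48, (m⁻¹ * a * m)⁻¹ * eS i * (m⁻¹ * a * m) = eS j by
    have := key _ hm i hi
    rwa [show m⁻¹ * (el Dat.nodeU8 * (h * b * h⁻¹) * (el Dat.nodeU8)⁻¹) * m = b by rw [hmU]; group] at this
  intro a ha
  haveI := finite_H0
  rw [OData.sgrp, grp, ← Subgroup.mem_toSubmonoid, Subgroup.closure_toSubmonoid_of_finite] at ha
  induction ha using Submonoid.closure_induction_right with
  | one => exact fun i hi => ⟨i, hi, by simp⟩
  | mul_right x _ y hy ih =>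
    intro i hi
    obtain ⟨j, hj, ej⟩ := ih i hi
    obtain ⟨g, hg, rfl⟩ := hy
    obtain ⟨n, hn, rfl⟩ := List.mem_iff_getElem.1 hg
    have ho := allLo_spec orbit_ok hn
    simp only [okOrbit, Bool.and_eq_true] at ho
    obtain ⟨hw, hall⟩ := ho
    obtain ⟨p, hp, rfl⟩ := List.mem_iff_getElem.1 hj
    have hq := allLo_spec hall hp
    simp only [Bool.and_eq_true, Nat.blt_eq, List.getD_eq_getElem _ _ hp] at hq
    obtain ⟨hq, he⟩ := hq
    refine ⟨orb48.getD ((Dat.orbPos.getD n []).getD p 0) 0, ?_, ?_⟩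
    · rw [List.getD_eq_getElem _ _ hq]; exact List.getElem_mem hq
    · have e := el_eq he
      rw [el_append, el_append, el_winv] at e
      change _ = eS _ at e
      rw [← e, show el (centGen n) = m⁻¹ * el (unp (topGens (HN.Dat.xd.O.node 8).chain)[n]) * m by
        rw [centGen, el_append, el_append, el_winv, List.getD_eq_getElem _ _ hn]]
      change _ = _ * eS orb48[p] * _
      rw [← ej]
      group

end

end Cfsg.Agent.HNRecog.Classes
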